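import Cfsg.Agent.Lib.BinaryCoset.UnitaryModel
import Cfsg.Agent.Lib.SmallSylow.Apply
import Cfsg.Agent.Lib.Dickson.Basic
import Cfsg.Agent.Lib.SLCard
import Cfsg.Agent.S1163

/-!
The three families: TI Sylow 2-subgroups and the facts used by the forward direction.

Blueprint: `blueprint/S5735.md`, step 5.
-/

set_option autoImplicit false
set_option linter.unusedSectionVars false
set_option linter.style.haveILetI false

namespace CfsgLib.BinaryCoset

open MulAction CfsgLib.CyclicInt Cfsg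
open scoped Pointwise

universe u v

section Transport

variable {G : Type u} {G' : Type v} [Group G] [Finite G] [Group G'] [Finite G'] (e : G ≃* G')
include e

theorem inv2_map {x : G} (h : Inv2 x) : Inv2 (e x) :=
  ⟨fun h1 => h.1 (e.injective (h1.trans (map_one e).symm)), by rw [← map_mul, h.2, map_one]⟩

theorem CentSq.of_equiv (h : CentSq G') : CentSq G := by
  haveI : Fact (Nat.Prime 2) := ⟨Nat.prime_two⟩
  intro T p x w hp hp2 hx hxT hw hc
  let T' : Sylow 2 G' := T.mapSurjective (f := e.toMonoidHom) e.surjective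
  refine e.injective ?_
  rw [map_mul, map_one]
  refine h T' p (e x) (e w) hp hp2 ((MulEquiv.orderOf_eq e x).trans hx) ?_ ⟨w, hw, rfl⟩
    (by rw [← map_mul, ← map_mul, hc])
  have h1 := smul_eq_iff_normalizer.mp hxT
  refine smul_eq_iff_normalizer.mpr ?_
  rw [Subgroup.mem_normalizer_iff] at h1 ⊢
  intro y
  obtain ⟨y, rfl⟩ := e.surjective y
  show e y ∈ (T : Subgroup G).map e.toMonoidHom ↔ e x * e y * (e x)⁻¹ ∈ (T : Subgroup G).map e.toMonoidHom
  rw [← map_inv, ← map_mul, ← map_mul]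
  have hm : ∀ v : G, e v ∈ (T : Subgroup G).map e.toMonoidHom ↔ v ∈ (T : Subgroup G) := fun v =>
    Subgroup.mem_map_iff_mem (f := e.toMonoidHom) e.injective
  rw [hm, hm]
  exact h1 y

theorem FourWitness.of_equiv (h : FourWitness G') : FourWitness G := by
  haveI : Fact (Nat.Prime 2) := ⟨Nat.prime_two⟩
  intro T y hy hy2
  let T' : Sylow 2 G' := T.mapSurjective (f := e.toMonoidHom) e.surjective
  obtain ⟨z, ⟨z0, hz0, rfl⟩, hz2, w, hw, hwT, ⟨k, hk⟩, hne⟩ := h T' (e y) ⟨y, hy, rfl⟩ (fun h1 => hy2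
    (e.injective (by rw [map_mul, map_one]; exact h1)))
  refine ⟨z0, hz0, e.injective (by rw [map_mul, map_one]; exact hz2), e.symm w, inv2_map e.symm hw,
    fun h1 => hwT ⟨e.symm w, h1, e.apply_symm_apply w⟩, ⟨k, e.injective ?_⟩, fun h1 => hne ?_⟩
  · rw [map_pow, map_mul, map_mul, e.apply_symm_apply, map_one]; exact hk
  · have := congrArg e h1
    rw [map_mul, map_mul, map_mul, e.apply_symm_apply, map_one] at this
    exact this

theorem card_sq_one_sylow (S : Sylow 2 G) (T : Sylow 2 G') :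
    Nat.card S = Nat.card T ∧ Nat.card {x : S // x * x = 1} = Nat.card {x : T // x * x = 1} := by
  haveI : Fact (Nat.Prime 2) := ⟨Nat.prime_two⟩
  let S' : Sylow 2 G' := S.mapSurjective (f := e.toMonoidHom) e.surjective
  let f : ↥(S : Subgroup G) ≃* ↥(T : Subgroup G') :=
    ((S : Subgroup G).equivMapOfInjective e.toMonoidHom e.injective).trans (Sylow.equiv S' T)
  exact ⟨Nat.card_congr f.toEquiv, Nat.card_congr (f.toEquiv.subtypeEquiv fun a => by
    show a * a = 1 ↔ f a * f a = 1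
    rw [← map_mul, MulEquiv.map_eq_one_iff])⟩

end Transport

/-- The order of a Sylow 2-subgroup read off the group order. -/
theorem card_sylow_two {G : Type u} [Group G] [Finite G] {k m : ℕ} (h : Nat.card G = 2 ^ k * m) (hm : Odd m)
    (S : Sylow 2 G) : Nat.card S = 2 ^ k := by
  haveI : Fact (Nat.Prime 2) := ⟨Nat.prime_two⟩
  rw [S.card_eq_multiplicity, h, Nat.factorization_mul (by positivity) hm.pos.ne',
    Finsupp.add_apply, Nat.Prime.factorization_pow Nat.prime_two, Finsupp.single_eq_same,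
    Nat.factorization_eq_zero_of_not_dvd (fun h2 => Nat.not_even_iff_odd.mpr hm (even_iff_two_dvd.mpr h2)),
    add_zero]

section Models

/-- In `SL₂` over a field of characteristic two a 2-element squares to one. -/
theorem sl_two_sq {F : Type} [Field F] [CharP F 2] {g : Matrix.SpecialLinearGroup (Fin 2) F} (hg : Two g) :
    g * g = 1 := by
  haveI : Fact (Nat.Prime 2) := ⟨Nat.prime_two⟩
  obtain ⟨k, hk⟩ := hg
  rw [← pow_two]
  exact Dickson.pow_prime_of_trace 2 (Dickson.trace_of_pow 2 hk)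

/-- In `SL₂` over a field of characteristic two the centraliser of an involution has exponent two. -/
theorem sl_cent_sq {F : Type} [Field F] [CharP F 2] {x g : Matrix.SpecialLinearGroup (Fin 2) F} (hx : Inv2 x)
    (h : g * x = x * g) : g * g = 1 := by
  haveI : Fact (Nat.Prime 2) := ⟨Nat.prime_two⟩
  have h2 : (2 : F) = 0 := CharTwo.two_eq_zero
  rw [← pow_two]
  refine Dickson.pow_prime_of_trace 2 ?_
  have htr := Dickson.trace_of_pow 2 (k := 1) (show x ^ 2 ^ 1 = 1 by rw [pow_one, pow_two]; exact hx.2)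
  rw [Matrix.trace_fin_two] at htr ⊢
  have e01 := congrArg (fun A : Matrix.SpecialLinearGroup (Fin 2) F => A.1 0 1) h
  have e10 := congrArg (fun A : Matrix.SpecialLinearGroup (Fin 2) F => A.1 1 0) h
  simp only [Dickson.mul_entry] at e01 e10
  by_cases hb : x.1 0 1 = 0
  · by_cases hc : x.1 1 0 = 0
    · exfalso
      have hd := Dickson.det_eq x
      rw [hb, hc] at hd
      have h00 : x.1 0 0 = 1 := by
        have : (x.1 0 0 - 1) ^ 2 = 0 := by linear_combination x.1 0 0 * htr - hd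
        exact sub_eq_zero.mp (pow_eq_zero_iff two_ne_zero |>.mp this)
      exact hx.1 (Dickson.ext_entries (by simpa using h00) (by simpa using hb) (by simpa using hc)
        (by simp; linear_combination htr - h00))
    · have : x.1 1 0 * (g.1 0 0 + g.1 1 1 - 2) = 0 := by
        linear_combination e10 - g.1 1 0 * htr + (g.1 1 0 * x.1 1 1 + g.1 0 0 * x.1 1 0 - g.1 1 0 - x.1 1 0 + 0) * h2 +
          0 * hb
      exact sub_eq_zero.mp ((mul_eq_zero.mp this).resolve_left hc)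
  · have : x.1 0 1 * (g.1 0 0 + g.1 1 1 - 2) = 0 := by
      linear_combination e01 - g.1 0 1 * htr + (g.1 0 1 * x.1 0 0 + g.1 1 1 * x.1 0 1 - g.1 0 1 - x.1 0 1) * h2
    exact sub_eq_zero.mp ((mul_eq_zero.mp this).resolve_left hb)

theorem charP_two {F : Type} [Field F] [Fintype F] {n : ℕ} (h : Fintype.card F = 2 ^ n) : CharP F 2 := by
  obtain ⟨r, hr⟩ := CharP.exists F
  obtain ⟨f, hp, hf⟩ := FiniteField.card F r
  have : r ∣ 2 := hp.dvd_of_dvd_pow (n := n) (by rw [← h, hf]; exact dvd_pow_self r f.pos.ne')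
  rwa [(Nat.prime_dvd_prime_iff_eq hp Nat.prime_two).mp this] at hr

variable {G : Type u} [Group G] [Finite G]

theorem elementary_sl {F : Type} [Field F] [Fintype F] {n : ℕ} (h : Fintype.card F = 2 ^ n)
    (e : G ≃* Matrix.SpecialLinearGroup (Fin 2) F) {g : G} (hg : Two g) : g * g = 1 := by
  haveI := charP_two h
  obtain ⟨k, hk⟩ := hg
  refine e.injective ?_
  rw [map_mul, map_one]
  exact sl_two_sq ⟨k, by rw [← map_pow, hk, map_one]⟩

theorem ti_sl {F : Type} [Field F] [Fintype F] {n : ℕ} (h : Fintype.card F = 2 ^ n)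
    (e : G ≃* Matrix.SpecialLinearGroup (Fin 2) F) : TI G := by
  haveI := charP_two h
  intro S T x hx hxS hxT
  set C : Subgroup G := Subgroup.centralizer {x}
  have hC : IsPGroup 2 C := fun g => ⟨1, Subtype.ext (by
    rw [pow_one, Subgroup.coe_pow, pow_two, Subgroup.coe_one]
    refine e.injective ?_
    rw [map_mul, map_one]
    refine sl_cent_sq (inv2_map e hx) ?_
    rw [← map_mul, ← map_mul, Subgroup.mem_centralizer_singleton_iff.mp g.2])⟩
  have hle : ∀ U : Sylow 2 G, x ∈ (U : Subgroup G) → (U : Subgroup G) ≤ C := fun U hU g hg => by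
    have hsq : ∀ a ∈ (U : Subgroup G), a * a = 1 := fun a ha => by
      obtain ⟨k, hk⟩ := U.2 ⟨a, ha⟩
      exact elementary_sl h e ⟨k, congrArg Subtype.val hk⟩
    refine Subgroup.mem_centralizer_singleton_iff.mpr ?_
    have e1 := hsq _ (mul_mem hg hU)
    have ea : g⁻¹ = g := inv_eq_of_mul_eq_one_right (hsq g hg)
    have eb : x⁻¹ = x := inv_eq_of_mul_eq_one_right hx.2
    conv_lhs => rw [← inv_eq_of_mul_eq_one_right e1, mul_inv_rev, ea, eb]
  exact Sylow.ext ((S.is_maximal' hC (hle S hxS)).symm.trans (T.is_maximal' hC (hle T hxT)))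

theorem ti_sz (hG : Cfsg.Lie.IsoSuzuki G) : TI G := by
  obtain ⟨F, i, j, m, hm, hF, ⟨e⟩⟩ := hG
  haveI : Fact (Nat.Prime 2) := ⟨Nat.prime_two⟩
  refine TI.of_equiv e ?_
  obtain ⟨-, S0, -, -, -, hreg⟩ := Cfsg.Agent.S1163.result hm hF
  set N := Subgroup.normalizer ((S0 : Subgroup ↥(Cfsg.Lie.Sz F (2 ^ (m + 1)))) :
    Set ↥(Cfsg.Lie.Sz F (2 ^ (m + 1))))
  suffices key : ∀ (T : Sylow 2 ↥(Cfsg.Lie.Sz F (2 ^ (m + 1)))) (x : ↥(Cfsg.Lie.Sz F (2 ^ (m + 1)))),
      Inv2 x → x ∈ (S0 : Subgroup _) → x ∈ (T : Subgroup _) → T = S0 by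
    intro S T x hx hxS hxT
    obtain ⟨g, rfl⟩ := MulAction.exists_smul_eq ↥(Cfsg.Lie.Sz F (2 ^ (m + 1))) S0 S
    have h1 := key (g⁻¹ • T) (g⁻¹ * x * g) (by simpa using hx.conj g⁻¹) (mem_smul_sylow.mp hxS)
      (by simpa using conj_mem_smul_sylow (g := g⁻¹) hxT)
    rw [inv_smul_eq_iff] at h1
    exact h1.symm
  intro T x hx hxS hxT
  obtain ⟨g, rfl⟩ := MulAction.exists_smul_eq ↥(Cfsg.Lie.Sz F (2 ^ (m + 1))) S0 T
  by_contra hne
  have hgN : (QuotientGroup.mk g : ↥(Cfsg.Lie.Sz F (2 ^ (m + 1))) ⧸ N) ≠ QuotientGroup.mk 1 := fun h => by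
    rw [QuotientGroup.eq, mul_one, inv_mem_iff] at h
    exact hne (smul_eq_iff_normalizer.mpr h)
  have hfix : x • (QuotientGroup.mk g : ↥(Cfsg.Lie.Sz F (2 ^ (m + 1))) ⧸ N) = QuotientGroup.mk g :=
    smul_mk_eq.mpr (Subgroup.le_normalizer (mem_smul_sylow.mp hxT))
  obtain ⟨s, -, huniq⟩ := hreg _ _ hgN hgN
  exact hx.1 (congrArg Subtype.val ((huniq ⟨x, hxS⟩ hfix).trans (huniq 1 (one_smul _ _)).symm))

theorem ti_psu {K : Type} [Field K] [Fintype K] {n : ℕ} (hn : 2 ≤ n) (hK : Fintype.card K = (2 ^ n) ^ 2)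
    (e : G ≃* Cfsg.PSU 3 K (2 ^ n)) :
    TI G ∧ ∃ (c : CfsgLib.PSUBorel.Conj K) (_ : CharP K 2), c.q = 2 ^ n ∧
      Nonempty (G ≃* (CfsgLib.PSUBorel.SUs c 3 ⧸ Subgroup.center (CfsgLib.PSUBorel.SUs c 3))) := by
  haveI : Fact (Nat.Prime 2) := ⟨Nat.prime_two⟩
  haveI : CharP K 2 := charP_two (show Fintype.card K = 2 ^ (n * 2) by rw [hK, ← pow_mul])
  obtain ⟨-, σ, hσ⟩ := CfsgLib.UnitaryBasic.frob_exists hK
  let c : CfsgLib.PSUBorel.Conj K := ⟨2 ^ n, σ, hK, hσ⟩
  obtain ⟨Ω', iA, iF, a, t, Q, hS, -, hQ, -⟩ := CfsgLib.SuzukiRankOne.exists_model c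
    (show 4 ≤ 2 ^ n from (show (4 : ℕ) = 2 ^ 2 by norm_num) ▸ Nat.pow_le_pow_right (by norm_num) hn)
  obtain ⟨E⟩ := CfsgLib.PSUBorel.exists_iso c (n := 3)
  let eP : (CfsgLib.PSUBorel.SUs c 3 ⧸ Subgroup.center (CfsgLib.PSUBorel.SUs c 3)) ≃* Cfsg.PSU 3 K (2 ^ n) :=
    QuotientGroup.congr _ _ E (by
      ext x
      constructor
      · rintro ⟨y, hy, rfl⟩
        exact Subgroup.mem_center_iff.mpr fun z => by
          obtain ⟨z', rfl⟩ := E.surjective z
          show E z' * E y = E y * E z'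
          rw [← map_mul, ← map_mul, Subgroup.mem_center_iff.mp hy z']
      · intro hx
        refine ⟨E.symm x, Subgroup.mem_center_iff.mpr fun z => E.injective ?_, by simp⟩
        simp [Subgroup.mem_center_iff.mp hx (E z)])
  exact ⟨TI.of_equiv (e.trans eP.symm) (ti_of_setup hS hQ), c, inferInstance, rfl, ⟨e.trans eP.symm⟩⟩

end Models

/-- The facts used by the forward direction. -/
def Ctx.Good {G : Type u} [Group G] [Finite G] [IsSimpleGroup G] {S : Sylow 2 G} {t : G} (c : Ctx G S t) : Prop :=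
  CentSq G ∧ ((∀ x ∈ (S : Subgroup G), x * x = 1) → AllInv S t) ∧
    ∀ y ∈ (S : Subgroup G), y * y ≠ 1 → c.Transit ∨ FourWitness G

variable {G : Type u} [Group G] [Finite G] [IsSimpleGroup G] {S : Sylow 2 G} {t : G} (c : Ctx G S t)
include c

theorem Ctx.card_group : Nat.card G =
    Nat.card (S : Subgroup G) * (Nat.card (CfsgLib.RankOne.D S t) * (Nat.card (S : Subgroup G) + 1)) := by
  rw [CfsgLib.RankOne.card_group c.setup, mul_assoc]

theorem Ctx.Z_eq_of_elementary (h : ∀ x ∈ (S : Subgroup G), x * x = 1) : c.Z = (S : Subgroup G) :=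
  le_antisymm c.Z_le fun x hx => ⟨hx, h x hx⟩

theorem Ctx.good_sl {F : Type} [Field F] [Fintype F] {n : ℕ} (hn : 1 ≤ n) (h : Fintype.card F = 2 ^ n)
    (e : G ≃* Matrix.SpecialLinearGroup (Fin 2) F) :
    c.Good ∧ ∀ x ∈ (S : Subgroup G), x * x = 1 := by
  have hel : ∀ x ∈ (S : Subgroup G), x * x = 1 := fun x hx => by
    obtain ⟨k, hk⟩ := S.2 ⟨x, hx⟩
    exact elementary_sl h e ⟨k, congrArg Subtype.val hk⟩
  obtain ⟨r, hr⟩ : ∃ r, 2 ^ n = 2 * (r + 1) := ⟨2 ^ (n - 1) - 1, by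
    obtain ⟨n, rfl⟩ := Nat.exists_eq_add_of_le hn
    rw [Nat.add_sub_cancel_left, Nat.sub_add_cancel Nat.one_le_two_pow, pow_add, pow_one]⟩
  have hsq : (2 ^ n) ^ 2 - 1 = (2 * r + 1) * (2 ^ n + 1) := by
    rw [hr]; exact Nat.sub_eq_of_eq_add (by ring)
  have hG : Nat.card G = 2 ^ n * ((2 * r + 1) * (2 ^ n + 1)) := by
    rw [Nat.card_congr e.toEquiv, SLCard.card_SL_two, h, hsq]
  have hS : Nat.card (S : Subgroup G) = 2 ^ n := card_sylow_two hG
    ((odd_two_mul_add_one r).mul (Nat.even_pow.mpr ⟨even_two, by omega⟩ : Even (2 ^ n)).add_one) S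
  have hD : Nat.card (CfsgLib.RankOne.D S t) = 2 * r + 1 := by
    have h1 := c.card_group
    rw [hG, hS] at h1
    exact (Nat.eq_of_mul_eq_mul_right (by omega)
      (Nat.eq_of_mul_eq_mul_left (by positivity) h1)).symm
  have hA : AllInv S t := c.allInv_of_card (by rw [c.Z_eq_of_elementary hel, hS, hD]; omega)
  exact ⟨⟨c.centSq_of_allInv hA, fun _ => hA, fun y hy hy2 => absurd (hel y hy) hy2⟩, hel⟩

theorem Ctx.Z_sub_one_dvd : Nat.card c.Z - 1 ∣ Nat.card (CfsgLib.RankOne.D S t) := by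
  classical
  haveI := faithful_sylow c.nonab
  obtain ⟨z, hz, hz2⟩ := c.exists_inv_Z
  letI : MulAction (CfsgLib.RankOne.D S t) G :=
    MulAction.compHom G (MulAut.conj.comp (CfsgLib.RankOne.D S t).subtype)
  have hsm : ∀ (d : CfsgLib.RankOne.D S t) (g : G), d • g = (d : G) * g * (d : G)⁻¹ := fun _ _ => rfl
  have horb : MulAction.orbit (CfsgLib.RankOne.D S t) z = (c.Z : Set G) \ {1} := by
    ext w
    constructor
    · rintro ⟨d, rfl⟩
      show d • z ∈ _
      rw [hsm]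
      exact ⟨c.conj_mem_Z ((CfsgLib.RankOne.mem_D c.setup).mp d.2).1 hz, fun e => hz2.1 (conj_eq_one_iff.mp e)⟩
    · rintro ⟨hw, hw1⟩
      obtain ⟨k, hk, e⟩ := CfsgLib.RankOne.exists_conj_inverted c.setup
        (show z ∈ involutionsIn (stabilizer G S : Set G) from
          ⟨mem_stabilizer_iff.mpr (smul_eq_of_mem hz.1), hz2.1, hz2.2⟩)
        (show w ∈ involutionsIn (stabilizer G S : Set G) from
          ⟨mem_stabilizer_iff.mpr (smul_eq_of_mem (c.Z_le hw)), hw1, (c.mem_Z.mp hw).2⟩)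
      exact ⟨⟨k⁻¹, inv_mem hk.1⟩, by show k⁻¹ * z * k⁻¹⁻¹ = w; rw [inv_inv]; exact e⟩
  have h1 := MulAction.index_stabilizer (CfsgLib.RankOne.D S t) z
  rw [horb, Set.ncard_diff_singleton_of_mem (one_mem c.Z), ← Nat.card_coe_set_eq] at h1
  simp only [SetLike.coe_sort_coe] at h1
  exact h1 ▸ Subgroup.index_dvd_card _

theorem Ctx.good_sz (hG : Cfsg.Lie.IsoSuzuki G) : c.Good := by
  obtain ⟨F, i, j, m, hm, hF, ⟨e⟩⟩ := hG
  haveI : Fact (Nat.Prime 2) := ⟨Nat.prime_two⟩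
  haveI := faithful_sylow c.nonab
  have hc := (Cfsg.Agent.S1163.result hm hF).1
  rw [← Nat.card_congr e.toEquiv] at hc
  obtain ⟨r, hr⟩ : ∃ r, 2 ^ (2 * m + 1) = 2 * r + 2 := ⟨2 ^ (2 * m) - 1, by
    have := Nat.one_le_two_pow (n := 2 * m)
    rw [pow_succ]; omega⟩
  rw [show 2 ^ (2 * m + 1) - 1 = 2 * r + 1 by omega, mul_assoc, ← pow_mul] at hc
  have hS : Nat.card (S : Subgroup G) = 2 ^ ((2 * m + 1) * 2) := card_sylow_two hc
    ((odd_two_mul_add_one r).mul (Nat.even_pow.mpr ⟨even_two, by omega⟩ : Even (2 ^ ((2 * m + 1) * 2))).add_one) S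
  have hD : Nat.card (CfsgLib.RankOne.D S t) = 2 * r + 1 := by
    have h1 := c.card_group
    rw [hc, hS] at h1
    exact (Nat.eq_of_mul_eq_mul_right (by omega)
      (Nat.eq_of_mul_eq_mul_left (by positivity) h1)).symm
  have hS' : Nat.card (S : Subgroup G) = (2 * r + 2) ^ 2 := by rw [hS, pow_mul, hr]
  have hdvd := c.Z_sub_one_dvd
  rw [hD] at hdvd
  have hq3 := c.three_le
  have hle : Nat.card c.Z - 1 ≤ 2 * r + 1 := Nat.le_of_dvd (by omega) hdvd
  have hq : Nat.card c.Z = 2 * r + 2 := by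
    rcases c.concl.2.1 with hsh | ⟨-, ⟨hsh, -⟩ | ⟨hsh, -⟩⟩
    · exfalso
      rw [c.Z_eq_of_elementary hsh, hS'] at hle
      have : 2 * (2 * r + 2) ≤ (2 * r + 2) ^ 2 := by rw [pow_two]; exact Nat.mul_le_mul_right _ (by omega)
      omega
    · exfalso
      rw [← c.card_Z, hS] at hsh
      obtain ⟨k, hk⟩ := IsPGroup.iff_card.mp (S.2.to_le c.Z_le)
      rw [hk, ← pow_mul] at hsh
      have hkm : (2 * m + 1) * 2 = k * 3 := Nat.pow_right_injective le_rfl hsh
      rw [hk, show 2 * r + 1 = 2 ^ (2 * m + 1) - 1 by omega] at hdvd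
      have hg := Nat.gcd_eq_left hdvd
      rw [Nat.pow_sub_one_gcd_pow_sub_one] at hg
      have hk1 := Nat.one_le_two_pow (n := k)
      have hk2 := Nat.one_le_two_pow (n := k.gcd (2 * m + 1))
      have he : k.gcd (2 * m + 1) = k := Nat.pow_right_injective le_rfl
        (show 2 ^ k.gcd (2 * m + 1) = 2 ^ k by omega)
      obtain ⟨l, hl⟩ := he ▸ Nat.gcd_dvd_right k (2 * m + 1)
      have hk0 : 0 < k := by omega
      have : k * (2 * l) = k * 3 := by rw [← hkm, hl]; ring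
      have := Nat.eq_of_mul_eq_mul_left hk0 this
      omega
    · rw [← c.card_Z] at hsh
      exact (Nat.pow_left_injective two_ne_zero (hsh.symm.trans hS') :)
  have hA : AllInv S t := c.allInv_of_card (by omega)
  refine ⟨c.centSq_of_allInv hA, fun _ => hA, fun _ _ _ => Or.inl ?_⟩
  show Nat.card (CfsgLib.RankOne.D S t) * Nat.card c.Z + Nat.card c.Z = Nat.card (S : Subgroup G)
  rw [hD, hq, hS']; ring

theorem Ctx.good_psu {K : Type} [Field K] [Fintype K] {n : ℕ} (hn : 2 ≤ n) (hK : Fintype.card K = (2 ^ n) ^ 2)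
    (e : G ≃* Cfsg.PSU 3 K (2 ^ n)) : c.Good := by
  obtain ⟨-, cj, iC, hq, ⟨e'⟩⟩ := ti_psu hn hK e
  haveI := iC
  haveI : Fact (Nat.Prime 2) := ⟨Nat.prime_two⟩
  obtain ⟨T, -, hT, hTZ⟩ := exists_sylow_model cj
  obtain ⟨h1, h2⟩ := card_sq_one_sylow e' S T
  have hS : Nat.card (S : Subgroup G) = cj.q ^ 3 := h1.trans hT
  have hZ : Nat.card c.Z = cj.q := by
    rw [← hTZ, ← h2]
    haveI := faithful_sylow c.nonab
    rw [c.card_Z, ← CfsgLib.SuzukiRankOne.card_sq_one c.setup]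
    rfl
  refine ⟨(centSq_model cj).of_equiv e', fun hel => absurd hS ?_, fun y hy hy2 => ?_⟩
  · rw [← c.Z_eq_of_elementary hel, hZ]
    have h4 : 1 < cj.q := cj.one_lt
    exact (show cj.q < cj.q ^ 3 by
      calc cj.q = cj.q ^ 1 := (pow_one _).symm
        _ < cj.q ^ 3 := Nat.pow_lt_pow_right h4 (by omega)).ne
  rcases subsingleton_or_nontrivial (Subgroup.center (CfsgLib.PSUBorel.SUs cj 3)) with hs | hnt
  · left
    have hz1 : Nat.card (Subgroup.center (CfsgLib.PSUBorel.SUs cj 3)) = 1 :=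
      Nat.card_eq_one_iff_unique.mpr ⟨hs, inferInstance⟩
    have hG : Nat.card G = cj.q ^ 3 * ((cj.q ^ 2 - 1) * (cj.q ^ 3 + 1)) := by
      rw [← CfsgLib.PSU3Min.card_G cj, Subgroup.card_eq_card_quotient_mul_card_subgroup
        (Subgroup.center (CfsgLib.PSUBorel.SUs cj 3)), hz1, mul_one]
      exact Nat.card_congr e'.toEquiv
    have hc := c.card_group
    rw [hG, hS] at hc
    have hq0 : 0 < cj.q := by have := cj.one_lt; omega
    have hD : cj.q ^ 2 - 1 = Nat.card (CfsgLib.RankOne.D S t) :=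
      Nat.eq_of_mul_eq_mul_right (by omega) (Nat.eq_of_mul_eq_mul_left (pow_pos hq0 3) hc)
    show Nat.card (CfsgLib.RankOne.D S t) * Nat.card c.Z + Nat.card c.Z = Nat.card (S : Subgroup G)
    rw [← hD, hZ, hS]
    have h5 : 1 ≤ cj.q ^ 2 := Nat.one_le_pow _ _ hq0
    calc (cj.q ^ 2 - 1) * cj.q + cj.q = (cj.q ^ 2 - 1 + 1) * cj.q := by ring
      _ = cj.q ^ 3 := by rw [Nat.sub_add_cancel h5]; ring
  · exact Or.inr ((fourWitness_model cj hnt).of_equiv e')

end CfsgLib.BinaryCoset
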