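import Cfsg.Agent.Lib.CyclicInt.Main
import Cfsg.Prelude.Def_Involutions
import Mathlib.GroupTheory.GroupAction.Quotient
import Mathlib.Tactic.FinCases

/-!
Binary coset actions with one class of involutions: commuting involutions have the same fixed points, and there is a
strongly embedded subgroup.

Blueprint: `blueprint/S5735.md`.
-/

set_option autoImplicit false
set_option linter.unusedSectionVars false
set_option linter.style.haveILetI false

namespace CfsgLib.BinaryCoset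

open MulAction CfsgLib.CyclicInt
open scoped Pointwise

universe u v

/-- A tuple map realised on every pair of entries is realised by one element. -/
def Binary (G : Type u) (X : Type v) [Group G] [MulAction G X] : Prop :=
  ∀ (n : ℕ) (I J : Fin n → X), 2 ≤ n →
    (∀ i j : Fin n, i ≠ j → ∃ g : G, g • I i = J i ∧ g • I j = J j) → ∃ g : G, ∀ i, g • I i = J i

/-- All involutions are conjugate. -/
def OneClass (G : Type u) [Group G] : Prop := ∀ x y : G, Inv2 x → Inv2 y → ∃ g : G, g * x * g⁻¹ = y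

/-- Part A of Bender's theorem in the form used here. -/
def PartA : Prop :=
  ∀ (G : Type u) [Group G] [Finite G] [IsSimpleGroup G], ¬ IsMulCommutative G →
    ∀ M : Subgroup G, Cfsg.IsStronglyEmbedded M → TI G

section Binary

variable {G : Type u} {X : Type v} [Group G] [MulAction G X] (hB : Binary G X)
include hB

theorem Binary.of_set [Finite X] (P : Set X) (f : X → X)
    (h : ∀ p ∈ P, ∀ q ∈ P, ∃ g : G, g • p = f p ∧ g • q = f q) : ∃ g : G, ∀ p ∈ P, g • p = f p := by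
  classical
  rcases P.eq_empty_or_nonempty with rfl | ⟨p0, hp0⟩
  · exact ⟨1, fun p hp => hp.elim⟩
  obtain ⟨k, ⟨e⟩⟩ := Finite.exists_equiv_fin P
  let I : Fin (k + 2) → X := fun i => if hi : (i : ℕ) < k then (e.symm ⟨i, hi⟩ : X) else p0
  have hI : ∀ i, I i ∈ P := fun i => by
    by_cases hi : (i : ℕ) < k <;> simp [I, hi, hp0]
  obtain ⟨g, hg⟩ := hB (k + 2) I (fun i => f (I i)) (by omega) fun i j _ => h _ (hI i) _ (hI j)
  refine ⟨g, fun p hp => ?_⟩
  have h1 := hg ⟨e ⟨p, hp⟩, by omega⟩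
  have h2 : I ⟨e ⟨p, hp⟩, by omega⟩ = p := by simp [I]
  rwa [h2] at h1

theorem Binary.three {p1 p2 p3 q1 q2 q3 : X} (h12 : ∃ g : G, g • p1 = q1 ∧ g • p2 = q2)
    (h13 : ∃ g : G, g • p1 = q1 ∧ g • p3 = q3) (h23 : ∃ g : G, g • p2 = q2 ∧ g • p3 = q3) :
    ∃ g : G, g • p1 = q1 ∧ g • p2 = q2 ∧ g • p3 = q3 := by
  obtain ⟨g, hg⟩ := hB 3 ![p1, p2, p3] ![q1, q2, q3] (by omega) fun i j hij => by
    fin_cases i <;> fin_cases j
    all_goals first
      | exact absurd rfl hij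
      | exact h12
      | exact h13
      | exact h23
      | (obtain ⟨g, e1, e2⟩ := h12; exact ⟨g, e2, e1⟩)
      | (obtain ⟨g, e1, e2⟩ := h13; exact ⟨g, e2, e1⟩)
      | (obtain ⟨g, e1, e2⟩ := h23; exact ⟨g, e2, e1⟩)
  exact ⟨g, hg 0, hg 1, hg 2⟩

theorem Binary.four {p1 p2 p3 p4 q1 q2 q3 q4 : X} (h12 : ∃ g : G, g • p1 = q1 ∧ g • p2 = q2)
    (h13 : ∃ g : G, g • p1 = q1 ∧ g • p3 = q3) (h14 : ∃ g : G, g • p1 = q1 ∧ g • p4 = q4)
    (h23 : ∃ g : G, g • p2 = q2 ∧ g • p3 = q3) (h24 : ∃ g : G, g • p2 = q2 ∧ g • p4 = q4)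
    (h34 : ∃ g : G, g • p3 = q3 ∧ g • p4 = q4) :
    ∃ g : G, g • p1 = q1 ∧ g • p2 = q2 ∧ g • p3 = q3 ∧ g • p4 = q4 := by
  obtain ⟨g, hg⟩ := hB 4 ![p1, p2, p3, p4] ![q1, q2, q3, q4] (by omega) fun i j hij => by
    fin_cases i <;> fin_cases j
    all_goals first
      | exact absurd rfl hij
      | exact h12
      | exact h13
      | exact h14
      | exact h23
      | exact h24
      | exact h34
      | (obtain ⟨g, e1, e2⟩ := h12; exact ⟨g, e2, e1⟩)
      | (obtain ⟨g, e1, e2⟩ := h13; exact ⟨g, e2, e1⟩)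
      | (obtain ⟨g, e1, e2⟩ := h14; exact ⟨g, e2, e1⟩)
      | (obtain ⟨g, e1, e2⟩ := h23; exact ⟨g, e2, e1⟩)
      | (obtain ⟨g, e1, e2⟩ := h24; exact ⟨g, e2, e1⟩)
      | (obtain ⟨g, e1, e2⟩ := h34; exact ⟨g, e2, e1⟩)
  exact ⟨g, hg 0, hg 1, hg 2, hg 3⟩

end Binary

section Coset

variable {G : Type u} [Group G] {H : Subgroup G}

theorem mk_smul (x g : G) : x • (g : G ⧸ H) = ((x * g : G) : G ⧸ H) := rfl

theorem smul_mk_eq {x g : G} : x • (g : G ⧸ H) = g ↔ g⁻¹ * x * g ∈ H := by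
  rw [mk_smul, QuotientGroup.eq, show (x * g)⁻¹ * g = (g⁻¹ * x * g)⁻¹ by group, inv_mem_iff]

theorem smul_one_eq {x : G} : x • ((1 : G) : G ⧸ H) = ((1 : G) : G ⧸ H) ↔ x ∈ H := by
  rw [smul_mk_eq]; simp

end Coset

variable {G : Type u} [Group G] [Finite G] {H : Subgroup G}

theorem even_of_inv2 {x : G} (hx : Inv2 x) (hxH : x ∈ H) : Even (Nat.card H) :=
  even_iff_two_dvd.mpr ((inv2_iff.mp hx) ▸ Subgroup.orderOf_dvd_natCard H hxH)

theorem exists_inv2_mem {K : Subgroup G} (h : Even (Nat.card K)) : ∃ x ∈ K, Inv2 x := by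
  haveI := Fact.mk Nat.prime_two
  obtain ⟨x, hx⟩ := exists_prime_orderOf_dvd_card' (G := K) 2 h.two_dvd
  exact ⟨x, x.2, inv2_iff.mpr ((Subgroup.orderOf_coe x).trans hx)⟩

/-- A Sylow 2-subgroup containing an involution has a central one. -/
theorem exists_cen {S : Sylow 2 G} {x : G} (hx : Inv2 x) (hxS : x ∈ (S : Subgroup G)) :
    ∃ z ∈ (S : Subgroup G), Inv2 z ∧ ∀ s ∈ (S : Subgroup G), s * z = z * s := by
  haveI := Fact.mk Nat.prime_two
  obtain ⟨z, hz, hz1⟩ := CfsgLib.Bender.TwoClosed.pcen_ne_bot (p := 2) S.2 fun e => hx.1 (by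
    have hmem := hxS
    rw [e, Subgroup.mem_bot] at hmem
    exact hmem)
  exact ⟨z, hz.1, ⟨hz1, (pow_two z).symm.trans hz.2.2⟩, hz.2.1⟩

theorem card_fixed_conj (x g : G) :
    Nat.card (fixedBy (G ⧸ H) (g * x * g⁻¹)) = Nat.card (fixedBy (G ⧸ H) x) :=
  (Nat.card_congr ((MulAction.toPerm g).subtypeEquiv fun p => by
    simp only [mem_fixedBy, MulAction.toPerm_apply, mul_smul, inv_smul_smul, smul_left_cancel_iff])).symm

/-- An even element has a power of 2-power order with odd exponent. -/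
theorem exists_two_part (g : G) : ∃ m : ℕ, Odd m ∧ ∃ k : ℕ, (g ^ m) ^ 2 ^ k = 1 := by
  obtain ⟨k, l, hl, he⟩ := Nat.exists_eq_two_pow_mul_odd (orderOf_pos g).ne'
  exact ⟨l, hl, k, by rw [← pow_mul, mul_comm, ← he, pow_orderOf_eq_one]⟩

theorem pow_smul_fixed {X : Type v} [MulAction G X] {g : G} {p : X} (h : g • p = p) (n : ℕ) : g ^ n • p = p := by
  induction n with
  | zero => rw [pow_zero, one_smul]
  | succ n ih => rw [pow_succ, mul_smul, h, ih]

section Main

variable (hone : OneClass G) (heven : Even (Nat.card H))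
include hone

theorem card_fixed_eq {x y : G} (hx : Inv2 x) (hy : Inv2 y) :
    Nat.card (fixedBy (G ⧸ H) x) = Nat.card (fixedBy (G ⧸ H) y) := by
  obtain ⟨g, rfl⟩ := hone x y hx hy
  exact (card_fixed_conj x g).symm

theorem fixed_eq_of_le {x y : G} (hx : Inv2 x) (hy : Inv2 y) (h : fixedBy (G ⧸ H) x ⊆ fixedBy (G ⧸ H) y) :
    fixedBy (G ⧸ H) x = fixedBy (G ⧸ H) y :=
  Set.eq_of_subset_of_ncard_le h
    (by rw [← Nat.card_coe_set_eq, ← Nat.card_coe_set_eq]; exact (card_fixed_eq hone hx hy).ge)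

include heven in
theorem fixed_nonempty {x : G} (hx : Inv2 x) : (fixedBy (G ⧸ H) x).Nonempty := by
  obtain ⟨y, hyH, hy⟩ := exists_inv2_mem heven
  obtain ⟨g, rfl⟩ := hone y x hy hx
  exact ⟨(g : G ⧸ H), smul_mk_eq.mpr (by simpa [mul_assoc] using hyH)⟩

variable (hB : Binary G (G ⧸ H))
include hB

/-- Commuting involutions have the same fixed points. -/
theorem fixed_eq_of_comm {i j : G} (hi : Inv2 i) (hj : Inv2 j) (hc : i * j = j * i) :
    fixedBy (G ⧸ H) i = fixedBy (G ⧸ H) j := by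
  classical
  rcases eq_or_ne i j with rfl | hne
  · rfl
  set k := i * j with hk
  have hk2 : Inv2 k := hi.mul hj hne hc
  refine fixed_eq_of_le hone hi hj fun p0 hp0 => ?_
  by_contra hp0j
  have hjk : ∀ p : G ⧸ H, i • p = p → k • p = j • p := fun p hp => by rw [hc, mul_smul, hp]
  have hij : ∀ p : G ⧸ H, i • p = p → i • j • p = j • p := fun p hp => by
    rw [← mul_smul, ← hk, hc, mul_smul, hp]
  let f : G ⧸ H → G ⧸ H := fun p => if i • p = p then j • p else p
  have hf1 : ∀ p, i • p = p → f p = j • p := fun p hp => if_pos hp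
  have hf2 : ∀ p, j • p = p ∨ k • p = p → f p = p := fun p hp => by
    by_cases h : i • p = p
    · rw [hf1 p h]
      rcases hp with hp | hp
      · exact hp
      · rw [← hjk p h, hp]
    · exact if_neg h
  let P := fixedBy (G ⧸ H) i ∪ fixedBy (G ⧸ H) j ∪ fixedBy (G ⧸ H) k
  obtain ⟨g, hg⟩ := hB.of_set P f (by
    intro p hp q hq
    rcases hp with (hp | hp) | hp <;> rcases hq with (hq | hq) | hq
    · exact ⟨j, (hf1 p hp).symm, (hf1 q hq).symm⟩
    · exact ⟨j, (hf1 p hp).symm, (hf2 q (Or.inl hq)).symm ▸ hq⟩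
    · exact ⟨k, (hf1 p hp).symm ▸ hjk p hp, (hf2 q (Or.inr hq)).symm ▸ hq⟩
    · exact ⟨j, (hf2 p (Or.inl hp)).symm ▸ hp, (hf1 q hq).symm⟩
    · exact ⟨1, by rw [one_smul, hf2 p (Or.inl hp)], by rw [one_smul, hf2 q (Or.inl hq)]⟩
    · exact ⟨1, by rw [one_smul, hf2 p (Or.inl hp)], by rw [one_smul, hf2 q (Or.inr hq)]⟩
    · exact ⟨k, (hf2 p (Or.inr hp)).symm ▸ hp, (hf1 q hq).symm ▸ hjk q hq⟩
    · exact ⟨1, by rw [one_smul, hf2 p (Or.inr hp)], by rw [one_smul, hf2 q (Or.inl hq)]⟩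
    · exact ⟨1, by rw [one_smul, hf2 p (Or.inr hp)], by rw [one_smul, hf2 q (Or.inr hq)]⟩)
  have hgI : ∀ p, i • p = p → g • p = j • p := fun p hp => (hg p (Or.inl (Or.inl hp))).trans (hf1 p hp)
  have hgJ : ∀ p, j • p = p → g • p = p := fun p hp => (hg p (Or.inl (Or.inr hp))).trans (hf2 p (Or.inl hp))
  have hgK : ∀ p, k • p = p → g • p = p := fun p hp => (hg p (Or.inr hp)).trans (hf2 p (Or.inr hp))
  have hgg : ∀ p : G ⧸ H, i • p = p → (g * g) • p = p := fun p hp => by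
    rw [mul_smul, hgI p hp, hgI _ (hij p hp), ← mul_smul, hj.2, one_smul]
  -- a 2-element with the same effect
  obtain ⟨m, ⟨l, rfl⟩, hpow⟩ := exists_two_part g
  obtain ⟨x, hx⟩ : ∃ x, x = g ^ (2 * l + 1) := ⟨_, rfl⟩
  rw [← hx] at hpow
  have hxI : ∀ p : G ⧸ H, i • p = p → x • p = j • p := fun p hp => by
    rw [hx, pow_succ, mul_smul, hgI p hp, pow_mul, pow_two]
    exact pow_smul_fixed (hgg _ (hij p hp)) l
  have hxJ : ∀ p : G ⧸ H, j • p = p → x • p = p := fun p hp => by rw [hx]; exact pow_smul_fixed (hgJ p hp) _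
  have hxK : ∀ p : G ⧸ H, k • p = p → x • p = p := fun p hp => by rw [hx]; exact pow_smul_fixed (hgK p hp) _
  have hxx : ∀ p : G ⧸ H, i • p = p → (x * x) • p = p := fun p hp => by
    rw [mul_smul, hxI p hp, hxI _ (hij p hp), ← mul_smul, hj.2, one_smul]
  have hx1 : x ≠ 1 := fun e => hp0j (by
    have := hxI p0 hp0
    rw [e, one_smul] at this
    exact this.symm)
  obtain ⟨s, hs⟩ := hpow
  obtain ⟨r, -, hr⟩ := (Nat.dvd_prime_pow Nat.prime_two).mp (orderOf_dvd_of_pow_eq_one hs)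
  rcases r with _ | _ | r
  · exact hx1 (orderOf_eq_one_iff.mp (by simpa using hr))
  · have hx2 : Inv2 x := inv2_iff.mpr (by simpa using hr)
    have e1 : fixedBy (G ⧸ H) j = fixedBy (G ⧸ H) x := fixed_eq_of_le hone hj hx2 hxJ
    have e2 : fixedBy (G ⧸ H) k = fixedBy (G ⧸ H) x := fixed_eq_of_le hone hk2 hx2 hxK
    have e3 : fixedBy (G ⧸ H) j = fixedBy (G ⧸ H) i := fixed_eq_of_le hone hj hi fun p hp => by
      have hpk : k • p = p := by
        have hp' : p ∈ fixedBy (G ⧸ H) k := by rw [e2, ← e1]; exact hp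
        exact hp'
      show i • p = p
      conv_lhs => rw [← hp]
      rw [← mul_smul]
      exact hpk
    exact hp0j (e3.symm ▸ hp0 : p0 ∈ fixedBy (G ⧸ H) j)
  · obtain ⟨y, hy⟩ : ∃ y, y = (x * x) ^ (2 ^ r) := ⟨_, rfl⟩
    have hy2 : Inv2 y := inv2_iff.mpr (by
      rw [hy, ← pow_two, ← pow_mul, show 2 * 2 ^ r = 2 ^ (r + 1) by rw [pow_succ]; ring,
        orderOf_pow_of_dvd (by positivity) (hr ▸ pow_dvd_pow 2 (by omega)), hr,
        Nat.pow_div (by omega) two_pos, show r + 1 + 1 - (r + 1) = 1 by omega, pow_one])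
    have e1 : fixedBy (G ⧸ H) i = fixedBy (G ⧸ H) y := fixed_eq_of_le hone hi hy2 fun p hp => by
      show y • p = p
      rw [hy]; exact pow_smul_fixed (hxx p hp) _
    have e2 : fixedBy (G ⧸ H) j = fixedBy (G ⧸ H) y := fixed_eq_of_le hone hj hy2 fun p hp => by
      show y • p = p
      rw [hy]; exact pow_smul_fixed (by rw [mul_smul, hxJ p hp, hxJ p hp]) _
    exact hp0j (by rw [e2, ← e1]; exact hp0 : p0 ∈ fixedBy (G ⧸ H) j)

/-- The involutions of a Sylow 2-subgroup have the same fixed points. -/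
theorem fixed_eq_of_sylow {S : Sylow 2 G} {x y : G} (hx : Inv2 x) (hy : Inv2 y) (hxS : x ∈ (S : Subgroup G))
    (hyS : y ∈ (S : Subgroup G)) : fixedBy (G ⧸ H) x = fixedBy (G ⧸ H) y := by
  obtain ⟨z, -, hz, hzc⟩ := exists_cen hx hxS
  rw [fixed_eq_of_comm hone hB hx hz (hzc x hxS), fixed_eq_of_comm hone hB hy hz (hzc y hyS)]

/-- All involutions of a Sylow subgroup meeting `H` in an involution lie in `H`. -/
theorem mem_of_sylow {S : Sylow 2 G} {x y : G} (hx : Inv2 x) (hy : Inv2 y) (hxS : x ∈ (S : Subgroup G))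
    (hyS : y ∈ (S : Subgroup G)) (hxH : x ∈ H) : y ∈ H := by
  have h : ((1 : G) : G ⧸ H) ∈ fixedBy (G ⧸ H) x := smul_one_eq.mpr hxH
  rw [fixed_eq_of_sylow hone hB hx hy hxS hyS] at h
  exact smul_one_eq.mp h

include heven in
/-- A Sylow subgroup whose involutions lie in `H`. -/
theorem exists_sylow_inv_mem : ∃ S : Sylow 2 G, ∀ y ∈ (S : Subgroup G), Inv2 y → y ∈ H := by
  obtain ⟨x, hxH, hx⟩ := exists_inv2_mem heven
  obtain ⟨S, hxS⟩ := hx.two.exists_sylow
  exact ⟨S, fun y hyS hy => mem_of_sylow hone hB hx hy hxS hyS hxH⟩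

variable [IsSimpleGroup G] (hH : H ≠ ⊤)
include hH heven

theorem nonabelian : ¬ IsMulCommutative G := by
  intro hc
  obtain ⟨x, hxH, hx⟩ := exists_inv2_mem heven
  haveI : H.Normal := ⟨fun n hn g => by rw [hc.is_comm.comm g n, mul_inv_cancel_right]; exact hn⟩
  rcases IsSimpleGroup.eq_bot_or_eq_top_of_normal H inferInstance with e | e
  · exact hx.1 (by rwa [e, Subgroup.mem_bot] at hxH)
  · exact hH e

/-- The set stabiliser of the fixed points of an involution is strongly embedded. -/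
theorem exists_strongly_embedded : ∃ M : Subgroup G, Cfsg.IsStronglyEmbedded M := by
  haveI := Fact.mk Nat.prime_two
  obtain ⟨x0, hx0H, hx0⟩ := exists_inv2_mem heven
  obtain ⟨P, hP⟩ := hx0.two.exists_sylow
  obtain ⟨z, hzP, hz, hzc⟩ := exists_cen hx0 hP
  set F := fixedBy (G ⧸ H) z with hF
  let M : Subgroup G :=
    { carrier := {g | ∀ p, g • p ∈ F ↔ p ∈ F}
      one_mem' := fun p => by rw [one_smul]
      mul_mem' := fun {g h} hg hh p => by rw [mul_smul]; exact (hg _).trans (hh p)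
      inv_mem' := fun {g} hg p => by simpa using (hg (g⁻¹ • p)).symm }
  have hPM : (P : Subgroup G) ≤ M := fun s hs p => by
    show z • s • p = s • p ↔ z • p = p
    rw [← mul_smul, ← hzc s hs, mul_smul, smul_left_cancel_iff]
  have hall : ∀ y ∈ M, Inv2 y → fixedBy (G ⧸ H) y = F := by
    intro y hyM hy
    obtain ⟨U, hU⟩ := hy.two.exists_sylow
    -- conjugate inside `M` into `P`
    have h2 : IsPGroup 2 (Subgroup.zpowers (⟨y, hyM⟩ : M)) := IsPGroup.of_card (n := 1) (by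
      rw [Nat.card_zpowers, ← Subgroup.orderOf_coe, pow_one]; exact inv2_iff.mp hy)
    obtain ⟨T, hT⟩ := h2.exists_le_sylow
    let PM : Sylow 2 M := P.subtype hPM
    obtain ⟨m, hm⟩ := MulAction.exists_smul_eq M PM T
    have h3 : (⟨y, hyM⟩ : M) ∈ ((m • PM : Sylow 2 M) : Subgroup M) := by
      rw [hm]; exact hT (Subgroup.mem_zpowers _)
    rw [mem_smul_sylow] at h3
    have h4 : (m : G)⁻¹ * y * m ∈ (P : Subgroup G) := by
      have : ((m⁻¹ * ⟨y, hyM⟩ * m : M) : G) ∈ (P : Subgroup G) := by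
        simpa [PM, Sylow.coe_subtype, Subgroup.mem_subgroupOf] using h3
      simpa using this
    have h5 : Inv2 ((m : G)⁻¹ * y * m) := by simpa using hy.conj (m : G)⁻¹
    have h6 := fixed_eq_of_sylow hone hB h5 hz h4 hzP
    ext p
    have h7 : p ∈ F ↔ (m : G)⁻¹ • p ∈ F := ((inv_mem m.2 : (m : G)⁻¹ ∈ M) p).symm
    rw [h7, hF, ← h6, mem_fixedBy, mem_fixedBy, mul_smul, mul_smul, smul_inv_smul, smul_left_cancel_iff]
  refine ⟨M, ?_, even_of_inv2 hz (hPM hzP), fun g hg => ?_⟩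
  · intro hM
    have hfix : ∀ y : G, Inv2 y → fixedBy (G ⧸ H) y = F := fun y hy => hall y (hM ▸ Subgroup.mem_top y) hy
    obtain ⟨p, hp⟩ := fixed_nonempty hone heven hz
    let N : Subgroup G := Subgroup.normalClosure {z}
    have hN : N = ⊤ := (IsSimpleGroup.eq_bot_or_eq_top_of_normal N inferInstance).resolve_left fun e =>
      hz.1 (by have := Subgroup.subset_normalClosure (Set.mem_singleton z); rwa [SetLike.mem_coe, show
        Subgroup.normalClosure {z} = ⊥ from e, Subgroup.mem_bot] at this)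
    have hle : N ≤ stabilizer G p := by
      refine (Subgroup.closure_le _).mpr ?_
      intro y hy
      obtain ⟨w, hw, hyw⟩ := Group.mem_conjugatesOfSet_iff.mp hy
      rw [Set.mem_singleton_iff] at hw
      subst hw
      obtain ⟨g, rfl⟩ := isConj_iff.mp hyw
      have : p ∈ fixedBy (G ⧸ H) (g * w * g⁻¹) := by rw [hfix _ (hz.conj g)]; exact hp
      exact this
    obtain ⟨a, rfl⟩ := QuotientGroup.mk_surjective p
    refine hH (eq_top_iff.mpr fun y _ => ?_)
    have := hle (hN ▸ Subgroup.mem_top (a * y * a⁻¹))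
    rw [mem_stabilizer_iff, smul_mk_eq] at this
    simpa [mul_assoc] using this
  · rw [← Nat.not_even_iff_odd]
    intro he
    obtain ⟨y, ⟨hyM, w, hwM, hwy⟩, hy⟩ := exists_inv2_mem he
    have hy' : g * w * g⁻¹ = y := by simpa using hwy
    have hw2 : Inv2 w := by
      have := hy.conj g⁻¹
      rwa [← hy', show g⁻¹ * (g * w * g⁻¹) * g⁻¹⁻¹ = w by group] at this
    have e1 := hall y hyM hy
    have e2 := hall w hwM hw2
    refine hg fun p => ?_
    have hy3 : p ∈ F ↔ w • p = p := by rw [← e2, mem_fixedBy]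
    have hy4 : g • p ∈ F ↔ y • g • p = g • p := by rw [← e1, mem_fixedBy]
    rw [hy4, hy3, ← hy', mul_smul, mul_smul, inv_smul_smul, smul_left_cancel_iff]

/-- Binary with one class of involutions: TI Sylow 2-subgroups. -/
theorem ti_of_binary (hA : PartA.{u}) : TI G := by
  obtain ⟨M, hM⟩ := exists_strongly_embedded hone heven hB hH
  exact hA G (nonabelian hone heven hB hH) M hM

end Main

end CfsgLib.BinaryCoset
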