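import Cfsg.Agent.Lib.BinaryCoset.Setup

/-!
The cosets of the centre of a Sylow 2-subgroup form a binary action in a TI group.

Blueprint: `blueprint/S5735.md`, converse.
-/

set_option autoImplicit false
set_option linter.unusedSectionVars false
set_option linter.style.haveILetI false

namespace CfsgLib.BinaryCoset

open MulAction CfsgLib.CyclicInt Cfsg
open scoped Pointwise

universe u

variable {G : Type u} [Group G] [Finite G] [IsSimpleGroup G]

theorem binary_center (hG : ¬ IsMulCommutative G) (hTI : TI G) (S : Sylow 2 G) :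
    Binary G (G ⧸ (Subgroup.center (S : Subgroup G)).map (S : Subgroup G).subtype) := by
  obtain ⟨t, c⟩ := exists_ctx hG hTI S
  rw [c.center_eq]
  intro n I J hn h
  let cen : G ⧸ c.Z → Sylow 2 G := fun p => p.out • S
  have hfix : ∀ (x : G) (p : G ⧸ c.Z), x • p = p ↔ x ∈ (cen p : Subgroup G) ∧ x * x = 1 := fun x p => by
    conv_lhs => rw [← QuotientGroup.out_eq' p]
    rw [smul_mk_eq, c.mem_Z, ← mem_smul_sylow, show (p.out)⁻¹ * x * p.out * ((p.out)⁻¹ * x * p.out) =
      (p.out)⁻¹ * (x * x) * (p.out)⁻¹⁻¹ by group, conj_eq_one_iff]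
  have hback : ∀ {g g' : G} {p q : G ⧸ c.Z}, g • p = q → g' • p = q → (g⁻¹ * g') • p = p :=
    fun {g g' p q} e e' => by rw [mul_smul, e', inv_smul_eq_iff, e]
  let i0 : Fin n := ⟨0, by omega⟩
  by_cases hall : ∀ i, cen (I i) = cen (I i0)
  · obtain ⟨g, hg0, -⟩ := h i0 ⟨1, by omega⟩ (by simp [i0])
    refine ⟨g, fun k => ?_⟩
    rcases eq_or_ne i0 k with rfl | hk
    · exact hg0
    obtain ⟨g', h0, hk'⟩ := h i0 k hk
    have hu := (hfix _ _).mp (hback hg0 h0)
    rw [← hall k] at hu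
    have hu' := (hfix _ _).mpr hu
    rw [mul_smul, inv_smul_eq_iff, hk'] at hu'
    exact hu'.symm
  push Not at hall
  obtain ⟨i1, hi1⟩ := hall
  obtain ⟨g, hg0, hg1⟩ := h i0 i1 (fun e => hi1 (by rw [e]))
  refine ⟨g, fun k => ?_⟩
  rcases eq_or_ne i0 k with rfl | hk
  · exact hg0
  rcases eq_or_ne i1 k with rfl | hk1
  · exact hg1
  obtain ⟨g1, h10, h1k⟩ := h i0 k hk
  obtain ⟨g2, h21, h2k⟩ := h i1 k hk1
  obtain ⟨hu, hu2⟩ := (hfix _ _).mp (hback hg0 h10)
  obtain ⟨hv, hv2⟩ := (hfix _ _).mp (hback hg1 h21)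
  set u := g⁻¹ * g1 with huDef
  set v := g⁻¹ * g2 with hvDef
  have e1 : u • I k = g⁻¹ • J k := by rw [huDef, mul_smul, h1k]
  have e2 : v • I k = g⁻¹ • J k := by rw [hvDef, mul_smul, h2k]
  have hgoal : u = 1 ∨ v = 1 → g • I k = J k := by
    rintro (e | e)
    · rw [e, one_smul] at e1; rw [e1, smul_inv_smul]
    · rw [e, one_smul] at e2; rw [e2, smul_inv_smul]
  apply hgoal
  by_contra hne
  rw [not_or] at hne
  have hiu : Inv2 u := ⟨hne.1, hu2⟩
  have hiv : Inv2 v := ⟨hne.2, hv2⟩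
  have hvu : (v * u) • I k = I k := by
    rw [mul_smul, e1, ← e2, ← mul_smul, hv2, one_smul]
  obtain ⟨-, hw⟩ := (hfix _ _).mp hvu
  have hcomm : v * u = u * v := by
    calc v * u = (v * u)⁻¹ := (inv_eq_of_mul_eq_one_right hw).symm
      _ = u * v := by rw [mul_inv_rev, hiu.inv, hiv.inv]
  have h3 : v • cen (I i0) = cen (I i0) := hTI _ _ u hiu (by
    have := conj_mem_smul_sylow (g := v) hu
    rwa [hcomm, mul_inv_cancel_right] at this) hu
  exact hi1 (hTI _ _ v hiv hv (mem_sylow_of_smul_eq hiv.two h3))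

end CfsgLib.BinaryCoset
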