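import Cfsg.Agent.Lib.BinaryCoset.Outside

/-!
A binary subgroup is the centre of a Sylow 2-subgroup, given the two facts about the families.

Blueprint: `blueprint/S5735.md`, cases 3 and 4.
-/

set_option autoImplicit false
set_option linter.unusedSectionVars false
set_option linter.style.haveILetI false

namespace CfsgLib.BinaryCoset

open MulAction CfsgLib.CyclicInt Cfsg
open scoped Pointwise

universe u

variable {G : Type u} [Group G] [Finite G]

/-- Every element of order four of a Sylow 2-subgroup times a central one has an involution outside with product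
of order four. -/
def FourWitness (G : Type u) [Group G] : Prop :=
  ∀ (T : Sylow 2 G) (y : G), y ∈ (T : Subgroup G) → y * y ≠ 1 →
    ∃ z ∈ (T : Subgroup G), z * z = 1 ∧ ∃ w : G, Inv2 w ∧ w ∉ (T : Subgroup G) ∧
      Two (w * (y * z)) ∧ w * (y * z) * (w * (y * z)) ≠ 1

variable [IsSimpleGroup G] {S : Sylow 2 G} {t : G} (c : Ctx G S t)
include c

/-- `D` is as large as fixed-point-freeness modulo `Z` allows. -/
def Ctx.Transit : Prop :=
  Nat.card (CfsgLib.RankOne.D S t) * Nat.card c.Z + Nat.card c.Z = Nat.card (S : Subgroup G)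

theorem Ctx.exists_conj_mem (hC : CentSq G) (htr : c.Transit) {H : Subgroup G} (hZH : c.Z ≤ H) {y : G} (hy : y ∈ H)
    (hyS : y ∈ (S : Subgroup G)) (hy2 : y * y ≠ 1) {x : G} (hx : Two x) : ∃ g : G, g⁻¹ * x * g ∈ H := by
  classical
  haveI : Fact (Nat.Prime 2) := ⟨Nat.prime_two⟩
  obtain ⟨T, hT⟩ := hx.exists_sylow
  obtain ⟨g, rfl⟩ := MulAction.exists_smul_eq G S T
  have hu : g⁻¹ * x * g ∈ (S : Subgroup G) := mem_smul_sylow.mp hT
  by_cases hu2 : g⁻¹ * x * g * (g⁻¹ * x * g) = 1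
  · exact ⟨g, hZH ⟨hu, hu2⟩⟩
  let F : CfsgLib.RankOne.D S t × c.Z → (S : Subgroup G) := fun p => ⟨(p.1 : G) * y * (p.1 : G)⁻¹ * p.2,
    mul_mem (c.conj_mem_S ((CfsgLib.RankOne.mem_D c.setup).mp p.1.2).1 hyS) p.2.2.1⟩
  have hout : ∀ p, (F p : G) ∉ c.Z := fun p hp => by
    have hdS := ((CfsgLib.RankOne.mem_D c.setup).mp (inv_mem p.1.2)).1
    have h1 := c.conj_mem_Z hdS (by simpa [F] using mul_mem hp (inv_mem p.2.2) :
      (p.1 : G) * y * (p.1 : G)⁻¹ ∈ c.Z)
    exact hy2 (by simpa [mul_assoc] using h1.2)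
  let K : CfsgLib.RankOne.D S t × c.Z ⊕ c.Z → (S : Subgroup G) := Sum.elim F fun z => ⟨z, z.2.1⟩
  have hK : Function.Injective K := by
    rintro (p | z) (p' | z') h
    · exact congrArg Sum.inl (c.conj_coset_inj hC hyS hy2 (congrArg Subtype.val h))
    · have e : (F p : G) = z' := congrArg Subtype.val h
      exact absurd (e ▸ z'.2) (hout p)
    · have e : (F p' : G) = z := (congrArg Subtype.val h).symm
      exact absurd (e ▸ z.2) (hout p')
    · exact congrArg Sum.inr (Subtype.ext (congrArg Subtype.val h :))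
  have hbij := (Nat.bijective_iff_injective_and_card K).mpr ⟨hK, by
    rw [Nat.card_sum, Nat.card_prod]; exact htr⟩
  obtain ⟨p | z, hp⟩ := hbij.2 ⟨g⁻¹ * x * g, hu⟩
  · obtain ⟨d, z⟩ := p
    have e : (d : G) * y * (d : G)⁻¹ * z = g⁻¹ * x * g := congrArg Subtype.val hp
    refine ⟨g * d, ?_⟩
    rw [show (g * (d : G))⁻¹ * x * (g * d) = (d : G)⁻¹ * (g⁻¹ * x * g) * d by group, ← e,
      show (d : G)⁻¹ * ((d : G) * y * (d : G)⁻¹ * z) * d = y * ((d : G)⁻¹ * z * d) by group]
    refine mul_mem hy (hZH ?_)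
    simpa using c.conj_mem_Z (g := (d : G)⁻¹) ((CfsgLib.RankOne.mem_D c.setup).mp (inv_mem d.2)).1 z.2
  · have e : (z : G) = g⁻¹ * x * g := congrArg Subtype.val hp
    exact absurd (e ▸ z.2.2) hu2

variable {H : Subgroup G} (hB : Binary G (G ⧸ H)) (hone : OneClass G) (hH : H ≠ ⊤) (hZH : c.Z ≤ H)
include hB hone hH hZH

/-- No element of `H` outside `S`. -/
theorem Ctx.le_sylow (hC : CentSq G) (helem : (∀ x ∈ (S : Subgroup G), x * x = 1) → AllInv S t) :
    H ≤ (S : Subgroup G) := by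
  have hHS := c.le_stab hB hone hC hH hZH
  intro h hh
  by_contra hhS
  obtain ⟨r, l, hl, hrl⟩ := Nat.exists_eq_two_pow_mul_odd (orderOf_pos h).ne'
  have hl1 : l ≠ 1 := by
    rintro rfl
    exact hhS (c.mem_of_two ⟨r, by rw [show 2 ^ r = orderOf h by rw [hrl, mul_one]]; exact pow_orderOf_eq_one h⟩
      (hHS h hh))
  set e := h ^ 2 ^ r with he
  have ho : orderOf e = l := by
    rw [he, orderOf_pow_of_dvd (by positivity) ⟨l, hrl⟩, hrl, Nat.mul_div_cancel_left _ (by positivity)]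
  have heH : e ∈ H := pow_mem hh _
  have heo : Odd (orderOf e) := ho.symm ▸ hl
  have he1 : e ≠ 1 := fun e' => hl1 (by rw [← ho, e', orderOf_one])
  by_cases hel : ∀ x ∈ (S : Subgroup G), x * x = 1
  · obtain ⟨x, hx, d, hd, hed⟩ := CfsgLib.RankOne.exists_decomp c.setup (hHS e heH)
    have hxH : x ∈ H := hZH ⟨hx, hel x hx⟩
    refine c.false_of_torus hB (helem hel) hZH hHS (e := d) ?_ hd fun hd1 => he1 ?_
    · have := mul_mem (inv_mem hxH) heH
      rwa [hed, inv_mul_cancel_left] at this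
    · rw [hd1, mul_one] at hed
      have h2 : orderOf e ∣ 2 := orderOf_dvd_of_pow_eq_one (by rw [pow_two, hed]; exact hel x hx)
      exact orderOf_eq_one_iff.mp (((Nat.dvd_prime Nat.prime_two).mp h2).resolve_right fun h' => by
        rw [h'] at heo; exact Nat.not_even_iff_odd.mpr heo even_two)
  push Not at hel
  obtain ⟨y, hy, hy2⟩ := hel
  by_cases hall : (S : Subgroup G) ≤ H
  · have h1 := c.false_of_large hB hall hHS
    have h2 := c.card_D_le hC hy hy2
    have h3 := c.three_le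
    have h4 : 0 < Nat.card (CfsgLib.RankOne.D S t) := Nat.card_pos
    have h5 : Nat.card (CfsgLib.RankOne.D S t) * 3 ≤ Nat.card (CfsgLib.RankOne.D S t) * Nat.card c.Z :=
      Nat.mul_le_mul_left _ h3
    omega
  obtain ⟨g, hg, hgH⟩ := SetLike.not_le_iff_exists.mp hall
  exact c.false_of_odd hB hC hZH heH (hHS e heH) heo he1 hg hgH fun k hk _ => hHS k hk

/-- The forward direction. -/
theorem Ctx.eq_Z (hC : CentSq G) (helem : (∀ x ∈ (S : Subgroup G), x * x = 1) → AllInv S t)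
    (hfour : ∀ y ∈ (S : Subgroup G), y * y ≠ 1 → c.Transit ∨ FourWitness G) : H = c.Z := by
  have hHS := c.le_sylow hB hone hH hZH hC helem
  refine le_antisymm (fun y hy => ⟨hHS hy, ?_⟩) hZH
  by_contra hy2
  rcases hfour y (hHS hy) hy2 with htr | hw
  · have h2 := c.card_D_le hC (hHS hy) hy2
    have h3 := c.three_le
    have h5 : Nat.card (CfsgLib.RankOne.D S t) * 3 ≤ Nat.card (CfsgLib.RankOne.D S t) * Nat.card c.Z :=
      Nat.mul_le_mul_left _ h3
    obtain ⟨A, B, x, v, hAB, hxA, hvB, hx1, hv1, htwo⟩ := c.exists_triangle (by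
      have h4 : 0 < Nat.card (CfsgLib.RankOne.D S t) := Nat.card_pos
      omega)
    have key := fun (w : G) (hw : Two w) => c.exists_conj_mem hC htr hZH hy (hHS hy) hy2 hw
    obtain ⟨n, hn⟩ := A.2 ⟨x, hxA⟩
    obtain ⟨m, hm⟩ := B.2 ⟨v, hvB⟩
    exact c.false_of_triangle hB hHS hAB hxA hvB hx1 hv1 (key x ⟨n, congrArg Subtype.val hn⟩)
      (key v ⟨m, congrArg Subtype.val hm⟩) (key _ htwo)
  · obtain ⟨z, hzS, hz2, w, hw2, hwS, htwo, hne⟩ := hw S y (hHS hy) hy2
    set u := y * z with hu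
    have huH : u ∈ H := mul_mem hy (hZH ⟨hzS, hz2⟩)
    obtain ⟨U, hU⟩ := htwo.exists_sylow
    have hUS : U ≠ S := by
      rintro rfl
      have := mul_mem hU (inv_mem (hHS huH))
      rw [mul_inv_cancel_right] at this
      exact hwS this
    obtain ⟨g, hg⟩ := MulAction.exists_smul_eq G S U
    have hv : g⁻¹ * (w * u * (w * u)) * g ∈ H := by
      refine hZH ⟨?_, ?_⟩
      · exact mem_smul_sylow.mp (by rw [hg]; exact mul_mem hU hU)
      · rw [show g⁻¹ * (w * u * (w * u)) * g * (g⁻¹ * (w * u * (w * u)) * g) =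
          g⁻¹ * (w * u * (w * u) * (w * u * (w * u))) * g by group,
          ti_sq partB c.nonab (ci_of_ti c.ti) c.ti U hU, mul_one, inv_mul_cancel]
    refine c.false_of_triangle hB hHS (Ne.symm hUS) (inv_mem (hHS huH)) (mul_mem hU hU) (fun e => hy2 ?_) hne
      ⟨1, by simpa using huH⟩ ⟨g, hv⟩ ⟨w, ?_⟩
    · rw [inv_eq_one, hu] at e
      rw [eq_inv_of_mul_eq_one_left e, ← mul_inv_rev, hz2, inv_one]
    · rw [show w⁻¹ * (w * u * (w * u) * u⁻¹) * w = u * (w * w) by group, hw2.2, mul_one]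
      exact huH

end CfsgLib.BinaryCoset
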