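import Cfsg.Agent.Lib.BinaryCoset.Main
import Cfsg.Agent.Lib.Bender.Assembly

/-!
The hypothesis of the binary coset theorem from Bender's theorem on one-fix actions.

Blueprint: `blueprint/S5735.md`.
-/

set_option autoImplicit false
set_option linter.unusedSectionVars false
set_option linter.style.haveILetI false

namespace CfsgLib.BinaryCoset

open MulAction CfsgLib.Bender CfsgLib.Bender.TwoClosed

universe u

/-- A simple group with a strongly embedded subgroup has TI Sylow 2-subgroups. -/
theorem partA_of_goodAll (hA : CfsgLib.Bender.Assembly.GoodAll.{u}) : PartA.{u} := by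
  intro G _ _ _ hG M hM
  have hcore : M.normalCore = ⊥ := (IsSimpleGroup.eq_bot_or_eq_top_of_normal _ inferInstance).resolve_right
    fun e => hM.1 (top_le_iff.mp (e.symm.le.trans M.normalCore_le))
  by_cases h4 : HasFour G
  · haveI := CfsgLib.Bender.faithful hcore
    obtain ⟨t, Q, hS, hQ⟩ := hA G (G ⧸ M) (CfsgLib.Bender.Assembly.oneFix hM h4) ((1 : G) : G ⧸ M)
    exact CfsgLib.CyclicInt.ti_of_setup hS hQ
  exfalso
  haveI : Fact (Nat.Prime 2) := ⟨Nat.prime_two⟩
  obtain ⟨s, hsM, hs1, hs2⟩ := exists_invol_mem hM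
  have hs := CfsgLib.Bender.Assembly.orderOf_two (⟨hs1, hs2⟩ : IsInv s)
  have htop : Cfsg.pPrimeCore 2 G ⊔ M = ⊤ := top_unique ((rankOne_case (even_card hM) h4 s hs).1.ge.trans
    (sup_le_sup_left (CfsgLib.StrongEmb.centralizer_le hM hsM hs) _))
  rcases IsSimpleGroup.eq_bot_or_eq_top_of_normal (Cfsg.pPrimeCore 2 G) inferInstance with e | e
  · rw [e, bot_sup_eq] at htop
    exact hM.1 htop
  · refine CfsgLib.not_dvd_card_pPrimeCore (G := G) Nat.prime_two ?_
    rw [e, Subgroup.card_top]
    exact (CfsgLib.CyclicInt.even_card_of_simple hG).two_dvd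

end CfsgLib.BinaryCoset
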