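import Cfsg.Agent.Lib.BinaryCoset.Forward
import Cfsg.Agent.Lib.BinaryCoset.Converse
import Cfsg.Agent.Lib.BinaryCoset.Families

/-!
Binary coset actions with one class of involutions, from part A of Bender's theorem.

Blueprint: `blueprint/S5735.md`.
-/

set_option autoImplicit false
set_option linter.unusedSectionVars false
set_option linter.style.haveILetI false

namespace CfsgLib.BinaryCoset

open MulAction CfsgLib.CyclicInt Cfsg
open scoped Pointwise

universe u

variable {G : Type u} [Group G] [Finite G] [IsSimpleGroup G]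

theorem Ctx.target {S : Sylow 2 G} {t : G} (c : Ctx G S t) : CfsgLib.SuzukiRankOne.IsTarget G := by
  obtain ⟨L, hn, hodd, hL⟩ := c.concl.2.2
  rcases IsSimpleGroup.eq_bot_or_eq_top_of_normal L hn with rfl | rfl
  · rw [Subgroup.index_bot] at hodd
    exact absurd (CfsgLib.CyclicInt.even_card_of_simple c.nonab) (Nat.not_even_iff_odd.mpr hodd)
  · exact CfsgLib.CyclicInt.IsTarget.of_top hL

/-- The statement of S5735, given part A. -/
theorem main (hA : PartA.{u}) (hinv : ∃ s : G, orderOf s = 2)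
    (hone : ∀ s t : G, orderOf s = 2 → orderOf t = 2 → IsConj s t)
    (H : Subgroup G) (hH : H ≠ ⊤) (heven : Even (Nat.card H)) :
    (∀ (n : ℕ) (I J : Fin n → G ⧸ H), 2 ≤ n →
        (∀ i j : Fin n, i ≠ j → ∃ g : G, g • I i = J i ∧ g • I j = J j) → ∃ g : G, ∀ i, g • I i = J i) ↔
      (((∃ (F : Type) (_ : Field F) (_ : Fintype F) (a : ℕ), 2 ≤ a ∧ Fintype.card F = 2 ^ a ∧ Nonempty (G ≃* Matrix.SpecialLinearGroup (Fin 2) F)) ∧
          ∃ P : Sylow 2 G, H = P) ∨
        (Cfsg.Lie.IsoSuzuki G ∧ ∃ P : Sylow 2 G, H = (Subgroup.center (P : Subgroup G)).map (P : Subgroup G).subtype) ∨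
        ((∃ (F : Type) (_ : Field F) (_ : Fintype F) (a : ℕ), 2 ≤ a ∧ Fintype.card F = (2 ^ a) ^ 2 ∧ Nonempty (G ≃* Cfsg.PSU 3 F (2 ^ a))) ∧
          ∃ P : Sylow 2 G, H = (Subgroup.center (P : Subgroup G)).map (P : Subgroup G).subtype)) := by
  haveI : Fact (Nat.Prime 2) := ⟨Nat.prime_two⟩
  have hG : ¬ IsMulCommutative G := by
    intro hc
    haveI : H.Normal := ⟨fun n hn g => by rw [hc.is_comm.comm g n, mul_inv_cancel_right]; exact hn⟩
    rcases IsSimpleGroup.eq_bot_or_eq_top_of_normal H inferInstance with e | e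
    · rw [e, Subgroup.card_bot] at heven
      exact absurd heven (by decide)
    · exact hH e
  have hone' : OneClass G := fun x y hx hy => isConj_iff.mp (hone x y (inv2_iff.mp hx) (inv2_iff.mp hy))
  constructor
  · intro hB'
    have hB : Binary G (G ⧸ H) := hB'
    obtain ⟨S, hS⟩ := exists_sylow_inv_mem hone' heven hB
    obtain ⟨t, c⟩ := exists_ctx hG (ti_of_binary hone' heven hB hH hA) S
    have hZH : c.Z ≤ H := fun z hz => by
      rcases eq_or_ne z 1 with rfl | h1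
      · exact one_mem _
      · exact hS z hz.1 ⟨h1, hz.2⟩
    have key : c.Good → H = c.Z := fun h => c.eq_Z hB hone' hH hZH h.1 h.2.1 h.2.2
    rcases c.target with ⟨F, i, j, ⟨n, hn, hF⟩, ⟨e⟩⟩ | hsz | ⟨F, i, j, n, hn, hF, ⟨e⟩⟩
    · obtain ⟨e'⟩ := CfsgLib.SmallSylow.sl_mulEquiv_psl hF
      obtain ⟨hgood, hel⟩ := c.good_sl (by omega) hF (e.trans e'.symm)
      exact Or.inl ⟨⟨F, i, j, n, hn, hF, ⟨e.trans e'.symm⟩⟩, S, (key hgood).trans (c.Z_eq_of_elementary hel)⟩
    · exact Or.inr (Or.inl ⟨hsz, S, (key (c.good_sz hsz)).trans c.center_eq.symm⟩)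
    · exact Or.inr (Or.inr ⟨⟨F, i, j, n, hn, hF, ⟨e⟩⟩, S, (key (c.good_psu hn hF e)).trans c.center_eq.symm⟩)
  · rintro (⟨⟨F, i, j, a, ha, hF, ⟨e⟩⟩, P, rfl⟩ | ⟨hsz, P, rfl⟩ | ⟨⟨F, i, j, a, ha, hF, ⟨e⟩⟩, P, rfl⟩)
    · have hTI := ti_sl hF e
      obtain ⟨t, c⟩ := exists_ctx hG hTI P
      have hel := (c.good_sl (by omega) hF e).2
      have hb := binary_center hG hTI P
      rwa [c.center_eq, c.Z_eq_of_elementary hel] at hb
    · exact binary_center hG (ti_sz hsz) P
    · exact binary_center hG (ti_psu ha hF e).1 P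

end CfsgLib.BinaryCoset
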