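import Cfsg.Agent.Lib.BinaryCoset.FromBender
import Cfsg.Prelude.Def_CaseTheorems

/-!
A simple group with one class of maximal 2-local subgroups has a strongly embedded subgroup, so is of rank one.

A maximal 2-local containing `N(S)` is strongly embedded: a largest 2-subgroup `P ≠ 1` of some `M ∩ M^g`, `g ∉ M`,
has `N(P)` inside a conjugate of `M`, which is `M` by maximality, and then `P` grows inside `M^g`.
-/

set_option autoImplicit false
set_option linter.unusedSectionVars false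
set_option linter.style.haveILetI false

namespace CfsgLib.BinaryCoset

open MulAction CfsgLib.CyclicInt
open scoped Pointwise

universe u

variable {G : Type u} [Group G] [Finite G]

theorem exists_sylow_between {P K : Subgroup G} (hP : IsPGroup 2 P) (hPK : P ≤ K) {S : Sylow 2 G}
    (hSK : (S : Subgroup G) ≤ K) :
    ∃ k ∈ K, P ≤ ((k • S : Sylow 2 G) : Subgroup G) ∧ ((k • S : Sylow 2 G) : Subgroup G) ≤ K := by
  haveI : Fact (Nat.Prime 2) := ⟨Nat.prime_two⟩
  obtain ⟨T, hT⟩ := (hP.comap_of_injective K.subtype K.subtype_injective).exists_le_sylow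
  obtain ⟨k, hk⟩ := MulAction.exists_smul_eq K (S.subtype hSK) T
  refine ⟨k, k.2, fun x hx => ?_, fun x hx => ?_⟩
  · have h1 : (⟨x, hPK hx⟩ : K) ∈ (T : Subgroup K) := hT hx
    rw [← hk, mem_smul_sylow, Sylow.coe_subtype, Subgroup.mem_subgroupOf] at h1
    exact mem_smul_sylow.mpr (by simpa using h1)
  · have h1 := mul_mem (mul_mem k.2 (hSK (mem_smul_sylow.mp hx))) (inv_mem k.2)
    simpa [mul_assoc] using h1

theorem exists_max_local {N : Subgroup G} (hN : Cfsg.IsTwoLocal N) :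
    ∃ M, Cfsg.IsMaximalTwoLocal M ∧ N ≤ M := by
  obtain ⟨M, ⟨hM, hNM⟩, hmax⟩ := (wellFounded_gt (α := Subgroup G)).has_min
    {K | Cfsg.IsTwoLocal K ∧ N ≤ K} ⟨N, hN, le_rfl⟩
  refine ⟨M, ⟨hM, fun K hK hMK => ?_⟩, hNM⟩
  by_contra hne
  exact hmax K ⟨hK, hNM.trans hMK⟩ (lt_of_le_of_ne hMK (Ne.symm hne))

variable [IsSimpleGroup G] (hG : ¬ IsMulCommutative G)
include hG

theorem exists_strongly_embedded_of_one_local
    (h1 : ∀ M M' : Subgroup G, Cfsg.IsMaximalTwoLocal M → Cfsg.IsMaximalTwoLocal M' →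
      ∃ g : G, M' = M.map (MulAut.conj g).toMonoidHom) :
    ∃ M : Subgroup G, Cfsg.IsStronglyEmbedded M := by
  classical
  haveI : Fact (Nat.Prime 2) := ⟨Nat.prime_two⟩
  obtain ⟨S⟩ : Nonempty (Sylow 2 G) := inferInstance
  have hS1 : (S : Subgroup G) ≠ ⊥ := S.ne_bot_of_dvd_card (even_card_of_simple hG).two_dvd
  obtain ⟨M, hM, hNM⟩ := exists_max_local (N := Subgroup.normalizer ((S : Subgroup G) : Set G))
    ⟨S, S.2, hS1, rfl⟩
  have hSM : (S : Subgroup G) ≤ M := Subgroup.le_normalizer.trans hNM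
  refine ⟨M, ?_, ?_, ?_⟩
  · obtain ⟨⟨T, hT2, hT1, rfl⟩, -⟩ := hM
    intro htop
    haveI := Subgroup.normalizer_eq_top_iff.mp htop
    rcases IsSimpleGroup.eq_bot_or_eq_top_of_normal T inferInstance with e | e
    · exact hT1 e
    · refine not_normal_sylow hG S ?_
      have : (S : Subgroup G) = ⊤ := ((S.is_maximal' hT2 (e ▸ le_top)).symm.trans e)
      rw [this]
      infer_instance
  · obtain ⟨n, hn⟩ := IsPGroup.iff_card.mp S.2
    refine even_iff_two_dvd.mpr (dvd_trans ?_ (Subgroup.card_dvd_of_le hSM))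
    rw [hn]
    exact dvd_pow_self 2 fun h => hS1 (Subgroup.card_eq_one.mp (by rw [hn, h, pow_zero]))
  intro g hg
  rw [← Nat.not_even_iff_odd]
  intro he
  let A := {P : Subgroup G | IsPGroup 2 P ∧ P ≠ ⊥ ∧
    ∃ h, h ∉ M ∧ P ≤ M ⊓ M.map (MulAut.conj h).toMonoidHom}
  have hA : A.Nonempty := by
    obtain ⟨x, hx, hx2⟩ := exists_inv2_mem he
    refine ⟨Subgroup.zpowers x, IsPGroup.of_card (n := 1) (by rw [Nat.card_zpowers, inv2_iff.mp hx2, pow_one]),
      fun h => hx2.1 (Subgroup.zpowers_eq_bot.mp h), g, hg, Subgroup.zpowers_le.mpr hx⟩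
  obtain ⟨P, ⟨hP, hP1, h, hh, hPle⟩, hmax⟩ := (wellFounded_gt (α := Subgroup G)).has_min A hA
  have hPM : P ≤ M := hPle.trans inf_le_left
  have hPh : P ≤ M.map (MulAut.conj h).toMonoidHom := hPle.trans inf_le_right
  have hSh : ((h • S : Sylow 2 G) : Subgroup G) ≤ M.map (MulAut.conj h).toMonoidHom := fun x hx =>
    ⟨h⁻¹ * x * h, hSM (mem_smul_sylow.mp hx), by simp [mul_assoc]⟩
  obtain ⟨k, hk, hPk, hkM⟩ := exists_sylow_between hP hPM hSM
  obtain ⟨l, hl, hPl, hlM⟩ := exists_sylow_between hP hPh hSh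
  by_cases hfull : P = ((k • S : Sylow 2 G) : Subgroup G)
  · have heq : l • h • S = k • S := Sylow.ext ((k • S : Sylow 2 G).is_maximal' (l • h • S : Sylow 2 G).2
      (hfull ▸ hPl))
    have hn : k⁻¹ * l * h ∈ M := hNM (smul_eq_iff_normalizer.mp (by
      rw [mul_smul, mul_smul, heq, inv_smul_smul]))
    obtain ⟨l', hl', rfl⟩ := hl
    refine hh ?_
    have h' := mul_mem hk hn
    have hlh : h * l' ∈ M := by simpa [mul_assoc] using h'
    simpa using mul_mem hlh (inv_mem hl')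
  have hlt : P < ((k • S : Sylow 2 G) : Subgroup G) := lt_of_le_of_ne hPk hfull
  have hnl : P ≠ ((l • h • S : Sylow 2 G) : Subgroup G) := fun e => hfull
    (((l • h • S : Sylow 2 G).is_maximal' (k • S : Sylow 2 G).2 (e ▸ hPk)).trans e.symm).symm
  obtain ⟨M', hM', hNP⟩ := exists_max_local (N := Subgroup.normalizer (P : Set G)) ⟨P, hP, hP1, rfl⟩
  obtain ⟨f, rfl⟩ := h1 M M' hM hM'
  have grow : ∀ {T : Sylow 2 G} {w : G}, P < (T : Subgroup G) → (T : Subgroup G) ⊓ Subgroup.normalizer (P : Set G) ≤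
      M ⊓ M.map (MulAut.conj w).toMonoidHom → w ∈ M := by
    intro T w hT hle
    by_contra hw
    obtain ⟨x, hxT, hxP, hxn⟩ := CfsgLib.Bender.TwoClosed.exists_mem_normalizer T.2 hT
    refine hmax _ ⟨T.2.to_le inf_le_left, fun e => hP1 ?_, w, hw, hle⟩
      (lt_of_le_of_ne (le_inf hT.le Subgroup.le_normalizer) fun e => hxP (e.symm ▸ ⟨hxT, hxn⟩))
    exact le_bot_iff.mp (e ▸ le_inf hT.le Subgroup.le_normalizer)
  have hf : f ∈ M := grow hlt (le_inf (inf_le_left.trans hkM) (inf_le_right.trans hNP))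
  have hfM : M.map (MulAut.conj f).toMonoidHom = M := by
    ext x
    constructor
    · rintro ⟨y, hy, rfl⟩
      exact mul_mem (mul_mem hf hy) (inv_mem hf)
    · intro hx
      exact ⟨f⁻¹ * x * f, mul_mem (mul_mem (inv_mem hf) hx) hf, by simp [mul_assoc]⟩
  rw [hfM] at hNP
  exact hh (grow (lt_of_le_of_ne hPl hnl) (le_inf (inf_le_right.trans hNP) (inf_le_left.trans hlM)))

/-- The statement of S3245, given part A. -/
theorem one_local (hA : PartA.{u}) (h1 : ∀ M M' : Subgroup G, Cfsg.IsMaximalTwoLocal M → Cfsg.IsMaximalTwoLocal M' →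
      ∃ g : G, M' = M.map (MulAut.conj g).toMonoidHom) :
    (∃ (F : Type) (_ : Field F) (_ : Fintype F) (n : ℕ), 2 ≤ n ∧ Fintype.card F = 2 ^ n ∧
        Nonempty (G ≃* Matrix.ProjectiveSpecialLinearGroup (Fin 2) F)) ∨
      Cfsg.Lie.IsoSuzuki G ∨
      (∃ (F : Type) (_ : Field F) (_ : Fintype F) (n : ℕ), 2 ≤ n ∧ Fintype.card F = (2 ^ n) ^ 2 ∧ Nonempty (G ≃* Cfsg.PSU 3 F (2 ^ n))) := by
  obtain ⟨M, hM⟩ := exists_strongly_embedded_of_one_local hG h1
  obtain ⟨S⟩ : Nonempty (Sylow 2 G) := inferInstance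
  obtain ⟨t, c⟩ := exists_ctx hG (hA G hG M hM) S
  rcases c.target with ⟨F, i, j, ⟨n, hn, hF⟩, he⟩ | h | h
  · exact Or.inl ⟨F, i, j, n, hn, hF, he⟩
  · exact Or.inr (Or.inl h)
  · exact Or.inr (Or.inr h)

end CfsgLib.BinaryCoset
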