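import Cfsg.Agent.Lib.BinaryCoset.Witness

/-!
The case of a subgroup outside every Sylow normaliser: the centres of its involutions.

Blueprint: `blueprint/S5735.md`, case 2.
-/

set_option autoImplicit false
set_option linter.unusedSectionVars false
set_option linter.style.haveILetI false

namespace CfsgLib.BinaryCoset

open MulAction CfsgLib.CyclicInt Cfsg
open scoped Pointwise

universe u

variable {G : Type u} [Group G] [Finite G]

/-- The Sylow subgroups containing an involution of `H`. -/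
def centres (H : Subgroup G) : SubMulAction H (Sylow 2 G) where
  carrier := {U | ∃ x ∈ H, Inv2 x ∧ x ∈ (U : Subgroup G)}
  smul_mem' := by
    rintro ⟨h, hh⟩ U ⟨x, hxH, hx, hxU⟩
    exact ⟨h * x * h⁻¹, mul_mem (mul_mem hh hxH) (inv_mem hh), hx.conj h, conj_mem_smul_sylow hxU⟩

theorem mem_centres {H : Subgroup G} {U : Sylow 2 G} :
    U ∈ centres H ↔ ∃ x ∈ H, Inv2 x ∧ x ∈ (U : Subgroup G) := Iff.rfl

variable [IsSimpleGroup G] {S : Sylow 2 G} {t : G} (c : Ctx G S t) {H : Subgroup G}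
include c

theorem Ctx.self_mem (hZH : c.Z ≤ H) : S ∈ centres H := by
  obtain ⟨z, hz, hz2⟩ := c.exists_inv_Z
  exact mem_centres.mpr ⟨z, hZH hz, hz2, hz.1⟩

theorem Ctx.exists_ne_centre (hZH : c.Z ≤ H) (hout : ∃ h ∈ H, h • S ≠ S) : ∃ U ∈ centres H, U ≠ S := by
  obtain ⟨h, hh, hne⟩ := hout
  obtain ⟨z, hz, hz2⟩ := c.exists_inv_Z
  exact ⟨h • S, mem_centres.mpr ⟨h * z * h⁻¹, mul_mem (mul_mem hh (hZH hz)) (inv_mem hh), hz2.conj h,
    conj_mem_smul_sylow hz.1⟩, hne⟩

/-- Two involutions of `H` with different centres are conjugate in `H`. -/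
theorem Ctx.conj_in {x y : G} (hx : Inv2 x) (hy : Inv2 y) (hxH : x ∈ H) (hyH : y ∈ H) {U : Sylow 2 G}
    (hxU : x ∈ (U : Subgroup G)) (hyU : y ∉ (U : Subgroup G)) : ∃ d ∈ H, d * x * d⁻¹ = y := by
  haveI := faithful_sylow c.nonab
  have hodd := CfsgLib.RankOne.odd_mul c.setup hx.1 hx.2 (smul_eq_of_mem hxU) hy.1 hy.2
    (fun h => hyU (mem_sylow_of_smul_eq hy.two h))
  obtain ⟨d, hd, he⟩ := CfsgLib.Involutions.exists_conj_eq_of_odd hx.2 hy.2 hodd
  refine ⟨d, (Subgroup.closure_le _).mpr ?_ hd, he⟩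
  rintro z (rfl | rfl) <;> assumption

/-- An element of `H` fixing `S` that is not a 2-element. -/
theorem Ctx.exists_odd (hZH : c.Z ≤ H) (hout : ∃ h ∈ H, h • S ≠ S) :
    ∃ e ∈ H, e • S = S ∧ Odd (orderOf e) ∧ e ≠ 1 := by
  haveI := faithful_sylow c.nonab
  obtain ⟨U, hU, hUS⟩ := c.exists_ne_centre hZH hout
  obtain ⟨y, hyH, hy, hyU⟩ := mem_centres.mp hU
  have hyS : y ∉ (S : Subgroup G) := fun h => hUS (c.ti U S y hy hyU h)
  obtain ⟨z1, hz1, z2, hz2, hne⟩ := CfsgLib.RankOne.two_le_card_invol c.setup c.four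
  have hmem : ∀ z, z ∈ involutionsIn (stabilizer G S : Set G) → Inv2 z ∧ z ∈ c.Z := fun z hz =>
    ⟨⟨hz.2.1, hz.2.2⟩, mem_sylow_of_smul_eq (show Inv2 z from ⟨hz.2.1, hz.2.2⟩).two hz.1, hz.2.2⟩
  obtain ⟨i1, m1⟩ := hmem z1 hz1
  obtain ⟨i2, m2⟩ := hmem z2 hz2
  obtain ⟨d1, hd1, e1⟩ := c.conj_in i1 hy (hZH m1) hyH m1.1 hyS
  obtain ⟨d2, hd2, e2⟩ := c.conj_in i2 hy (hZH m2) hyH m2.1 hyS
  set h := d2⁻¹ * d1 with hh
  have hconj : h * z1 * h⁻¹ = z2 := by
    rw [hh, show d2⁻¹ * d1 * z1 * (d2⁻¹ * d1)⁻¹ = d2⁻¹ * (d1 * z1 * d1⁻¹) * d2 by group, e1, ← e2]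
    group
  have hhH : h ∈ H := mul_mem (inv_mem hd2) hd1
  have hhS : h • S = S := c.ti _ _ z2 i2 (hconj ▸ conj_mem_smul_sylow m1.1) m2.1
  obtain ⟨r, l, hl, hrl⟩ := Nat.exists_eq_two_pow_mul_odd (orderOf_pos h).ne'
  have hl1 : l ≠ 1 := by
    rintro rfl
    have htwo : Two h := ⟨r, by rw [show 2 ^ r = orderOf h by rw [hrl, mul_one]]; exact pow_orderOf_eq_one h⟩
    exact hne (by rw [← hconj, ← c.central m1.1 m1.2 (c.mem_of_two htwo hhS), mul_inv_cancel_right])
  have ho : orderOf (h ^ 2 ^ r) = l := by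
    rw [orderOf_pow_of_dvd (by positivity) ⟨l, hrl⟩, hrl, Nat.mul_div_cancel_left _ (by positivity)]
  exact ⟨h ^ 2 ^ r, pow_mem hhH _, pow_smul_fixed hhS _, ho.symm ▸ hl,
    fun e => hl1 (by rw [← ho, e, orderOf_one])⟩

/-- The 2-elements of `H` fixing `S` are transitive on the other centres. -/
theorem Ctx.trans_centres (hZH : c.Z ≤ H) (hout : ∃ h ∈ H, h • S ≠ S) {U V : Sylow 2 G}
    (hU : U ∈ centres H) (hV : V ∈ centres H) (hUS : U ≠ S) (hVS : V ≠ S) :
    ∃ w ∈ H, w ∈ (S : Subgroup G) ∧ w • U = V := by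
  haveI : Fact (Nat.Prime 2) := ⟨Nat.prime_two⟩
  let a : centres H := ⟨S, c.self_mem hZH⟩
  let π : H →* Equiv.Perm (centres H) := MulAction.toPermHom H (centres H)
  let f : H →* π.range := π.rangeRestrict
  have hf : Function.Surjective f := π.rangeRestrict_surjective
  have hfs : ∀ (x : H) (W : centres H), f x • W = x • W := fun _ _ => rfl
  have hval : ∀ (x : H) (W : centres H), ((x • W : centres H) : Sylow 2 G) = (x : G) • (W : Sylow 2 G) :=
    fun _ _ => rfl
  -- a 2-element of `H` fixes exactly one centre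
  have huniq : ∀ x : H, Two (x : G) → (x : G) ≠ 1 → ∃! W : centres H, x • W = W := by
    intro x hx hx1
    obtain ⟨W, hW⟩ := hx.exists_sylow
    obtain ⟨k, hk⟩ := exists_involution_pow hx hx1
    refine ⟨⟨W, mem_centres.mpr ⟨_, pow_mem x.2 k, hk, pow_mem hW k⟩⟩, Subtype.ext (smul_eq_of_mem hW), ?_⟩
    intro W' hW'
    exact Subtype.ext (ti_eq_of_mem c.ti hx1
      (mem_sylow_of_smul_eq hx ((hval x W').symm.trans (congrArg Subtype.val hW'))) hW)
  -- lifts of 2-elements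
  have hlift : ∀ (X : π.range) (k : ℕ), X ^ 2 ^ k = 1 → ∃ x : H, Two (x : G) ∧ f x = X := by
    intro X k hX
    obtain ⟨x, rfl⟩ := hf X
    obtain ⟨m, hm, j, hj⟩ := exists_two_part x
    have hco : Nat.Coprime m (orderOf (f x)) :=
      Nat.Coprime.coprime_dvd_right (orderOf_dvd_of_pow_eq_one hX)
        ((Nat.coprime_two_right.mpr hm).pow_right k)
    obtain ⟨i, hi⟩ := exists_pow_eq_self_of_coprime hco
    refine ⟨(x ^ m) ^ i, ⟨j, ?_⟩, by rw [map_pow, map_pow, hi]⟩
    rw [← Subgroup.coe_pow, ← pow_mul, mul_comm, pow_mul, hj, one_pow, Subgroup.coe_one]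
  let Sb : Subgroup π.range := ((S : Subgroup G).subgroupOf H).map f
  have hfour : CfsgLib.SuzukiRankOne.Four π.range := by
    haveI := faithful_sylow c.nonab
    obtain ⟨z1, hz1, z2, hz2, hne⟩ := CfsgLib.RankOne.two_le_card_invol c.setup c.four
    obtain ⟨U', hU', hU'S⟩ := c.exists_ne_centre hZH hout
    have hmem : ∀ z, z ∈ involutionsIn (stabilizer G S : Set G) → z ∈ c.Z := fun z hz =>
      ⟨mem_sylow_of_smul_eq (show Inv2 z from ⟨hz.2.1, hz.2.2⟩).two hz.1, hz.2.2⟩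
    have hinj : ∀ z z' : H, (z : G) ∈ (S : Subgroup G) → (z' : G) ∈ (S : Subgroup G) → f z = f z' → z = z' :=
      fun z z' hz hz' h => Subtype.ext (c.fixed_inj hz hz' hU'S (by
        have := congrArg (fun X : π.range => ((X • (⟨U', hU'⟩ : centres H) : centres H) : Sylow 2 G)) h
        exact this))
    have m1 := hmem z1 hz1
    have m2 := hmem z2 hz2
    refine ⟨f ⟨z1, hZH m1⟩, f ⟨z2, hZH m2⟩, fun e => hz1.2.1 ?_, fun e => hz2.2.1 ?_,
      fun e => hne (congrArg Subtype.val (hinj _ _ m1.1 m2.1 e) :), ?_, ?_, ?_⟩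
    · exact congrArg Subtype.val (hinj _ 1 m1.1 (one_mem _) (e.trans (map_one f).symm))
    · exact congrArg Subtype.val (hinj _ 1 m2.1 (one_mem _) (e.trans (map_one f).symm))
    · rw [← map_mul, ← map_one f]; exact congrArg f (Subtype.ext m1.2)
    · rw [← map_mul, ← map_one f]; exact congrArg f (Subtype.ext m2.2)
    · rw [← map_mul, ← map_mul]; exact congrArg f (Subtype.ext (c.central m1.1 m1.2 m2.1))
  have hC : CfsgLib.Bender.TwoClosed.Closed π.range (centres H) a Sb :=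
    { trans := by
        haveI : IsPretransitive H (centres H) := by
          have key : ∀ W : centres H, ∃ x : H, x • a = W := by
            rintro ⟨W, hW⟩
            by_cases hWS : W = S
            · exact ⟨1, Subtype.ext (by rw [hval, Subgroup.coe_one, one_smul]; exact hWS.symm)⟩
            obtain ⟨y, hyH, hy, hyW⟩ := mem_centres.mp hW
            obtain ⟨z, hz, hz2⟩ := c.exists_inv_Z
            obtain ⟨d, hd, e⟩ := c.conj_in hz2 hy (hZH hz) hyH hz.1 (fun h => hWS (c.ti W S y hy hyW h))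
            exact ⟨⟨d, hd⟩, Subtype.ext (c.ti _ _ y hy (e ▸ conj_mem_smul_sylow hz.1) hyW)⟩
          refine ⟨fun W W' => ?_⟩
          obtain ⟨x, rfl⟩ := key W
          obtain ⟨x', rfl⟩ := key W'
          exact ⟨x' * x⁻¹, by rw [mul_smul, inv_smul_smul]⟩
        exact ⟨fun W W' => by
          obtain ⟨x, hx⟩ := exists_smul_eq H W W'
          exact ⟨f x, hx⟩⟩
      one_fix := fun X hX => by
        obtain ⟨x, hx, rfl⟩ := hlift X 1 (by rw [pow_one, pow_two]; exact hX.2)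
        exact huniq x hx fun e => hX.1 (by rw [show x = 1 from Subtype.ext e, map_one])
      four := hfour
      le := by
        rintro _ ⟨x, hx, rfl⟩
        exact Subtype.ext (smul_eq_of_mem (Subgroup.mem_subgroupOf.mp hx))
      conj := by
        intro X hXa Y hY
        obtain ⟨h, rfl⟩ := hf X
        obtain ⟨x, hx, rfl⟩ := hY
        refine ⟨h * x * h⁻¹, Subgroup.mem_subgroupOf.mpr ?_, by rw [map_mul, map_mul, map_inv]⟩
        exact c.conj_mem_S (congrArg Subtype.val (hXa : f h • a = a)) (Subgroup.mem_subgroupOf.mp hx)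
      two_group := IsPGroup.map (S.2.comap_of_injective H.subtype H.subtype_injective) f
      two_mem := by
        intro X hXa ⟨k, hk⟩
        obtain ⟨x, hx, rfl⟩ := hlift X k hk
        exact ⟨x, Subgroup.mem_subgroupOf.mpr (mem_sylow_of_smul_eq hx (congrArg Subtype.val hXa :)), rfl⟩ }
  obtain ⟨X, ⟨x, hx, rfl⟩, hX⟩ := CfsgLib.Bender.TwoClosed.trans partB hC ⟨U, hU⟩ ⟨V, hV⟩
    (fun e => hUS (congrArg Subtype.val e)) (fun e => hVS (congrArg Subtype.val e))
  exact ⟨x, x.2, Subgroup.mem_subgroupOf.mp hx, congrArg Subtype.val hX⟩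

/-- A binary subgroup containing `Z` fixes `S`. -/
theorem Ctx.le_stab (hB : Binary G (G ⧸ H)) (hone : OneClass G) (hC : CentSq G) (hH : H ≠ ⊤) (hZH : c.Z ≤ H) :
    ∀ h ∈ H, h • S = S := by
  by_contra hcon
  push Not at hcon
  obtain ⟨U, hU, hUS⟩ := c.exists_ne_centre hZH hcon
  obtain ⟨e, heH, heS, he, he1⟩ := c.exists_odd hZH hcon
  by_cases hall : (S : Subgroup G) ≤ H
  · -- every involution lies in `H`
    have hinv : ∀ y : G, Inv2 y → y ∈ H := by
      intro y hy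
      obtain ⟨V, hV⟩ := hy.two.exists_sylow
      have hVc : V ∈ centres H := by
        by_cases hVS : V = S
        · exact hVS ▸ c.self_mem hZH
        · obtain ⟨s, hs, rfl⟩ := ti_trans partB c.nonab (ci_of_ti c.ti) c.ti S hUS hVS
          exact (centres H).smul_mem (⟨s, hall hs⟩ : H) hU
      obtain ⟨x, hxH, hx, hxV⟩ := mem_centres.mp hVc
      exact mem_of_sylow hone hB hx hy hxV hV hxH
    obtain ⟨z, -, hz⟩ := c.exists_inv_Z
    have hN : Subgroup.normalClosure {z} = ⊤ :=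
      (IsSimpleGroup.eq_bot_or_eq_top_of_normal _ inferInstance).resolve_left fun e' =>
        hz.1 (by have := Subgroup.subset_normalClosure (Set.mem_singleton z); rwa [SetLike.mem_coe, show
          Subgroup.normalClosure {z} = ⊥ from e', Subgroup.mem_bot] at this)
    refine hH (top_le_iff.mp (hN ▸ (Subgroup.closure_le _).mpr ?_))
    intro y hy
    obtain ⟨w, hw, hyw⟩ := Group.mem_conjugatesOfSet_iff.mp hy
    rw [Set.mem_singleton_iff] at hw
    subst hw
    obtain ⟨g, rfl⟩ := isConj_iff.mp hyw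
    exact hinv _ (hz.conj g)
  obtain ⟨g, hg, hgH⟩ := SetLike.not_le_iff_exists.mp hall
  refine c.false_of_odd hB hC hZH heH heS he he1 hg hgH fun k hk hk' => ?_
  by_contra hkS
  have hkS' : k • S ∈ centres H := (centres H).smul_mem (⟨k, hk⟩ : H) (c.self_mem hZH)
  have hgS : g⁻¹ • S = S := inv_smul_eq_iff.mpr (smul_eq_of_mem hg).symm
  have hgk : g⁻¹ • k • S ∈ centres H := by
    have := (centres H).smul_mem (⟨g⁻¹ * k * g, hk'⟩ : H) (c.self_mem hZH)
    rwa [Subgroup.smul_def, mul_smul, mul_smul, smul_eq_of_mem hg] at this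
  obtain ⟨w, hwH, hwS, hw⟩ := c.trans_centres hZH hcon hkS' hgk hkS
    (fun h => hkS (by rw [inv_smul_eq_iff] at h; rw [h, smul_eq_of_mem hg]))
  have hwg := c.fixed_inj hwS (inv_mem hg) hkS hw
  exact hgH (by have := inv_mem hwH; rwa [hwg, inv_inv] at this)

end CfsgLib.BinaryCoset
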