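import Cfsg.Agent.Lib.BinaryCoset.Basic
import Cfsg.Agent.S1137

/-!
The rank one set-up of a simple group with TI Sylow 2-subgroups: the subgroup `Z` and fixed-point-freeness modulo it.

Blueprint: `blueprint/S5735.md`.
-/

set_option autoImplicit false
set_option linter.unusedSectionVars false
set_option linter.style.haveILetI false

namespace CfsgLib.BinaryCoset

open MulAction CfsgLib.CyclicInt Cfsg
open scoped Pointwise

universe u v

/-- Invariant sets of size prime to the order of an element of prime order contain fixed points. -/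
theorem exists_fixed_of_invariant {G : Type u} {X : Type v} [Group G] [Finite X] [MulAction G X] {x : G}
    {p : ℕ} (hp : p.Prime) (hx : x ^ p = 1) (P : Set X) (hP : ∀ y, x • y ∈ P ↔ y ∈ P)
    (hd : ¬ p ∣ Nat.card P) : ∃ y ∈ P, x • y = y := by
  classical
  haveI := Fact.mk hp
  haveI : Fintype P := Fintype.ofFinite P
  let σ : Equiv.Perm P := (MulAction.toPerm x).subtypeEquiv fun y => (hP y).symm
  have hσ : ∀ (n : ℕ) (y : P), ((σ ^ n) y : X) = x ^ n • (y : X) := fun n => by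
    induction n with
    | zero => intro y; simp
    | succ n ih =>
      intro y
      rw [pow_succ', Equiv.Perm.mul_apply, pow_succ', mul_smul, ← ih]
      rfl
  rw [Nat.card_eq_fintype_card] at hd
  obtain ⟨y, hy⟩ := Equiv.Perm.exists_fixed_point_of_prime (p := p) (n := 1) hd (σ := σ)
    (Equiv.ext fun y => Subtype.ext (by rw [hσ, pow_one, hx, one_smul]; rfl))
  exact ⟨y, y.2, congrArg Subtype.val hy⟩

section General

variable {G : Type u} [Group G] [Finite G]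

theorem exists_involution_pow {x : G} (hx : Two x) (hx1 : x ≠ 1) : ∃ k : ℕ, Inv2 (x ^ k) := by
  obtain ⟨n, hn⟩ := hx
  obtain ⟨r, -, hr⟩ := (Nat.dvd_prime_pow Nat.prime_two).mp (orderOf_dvd_of_pow_eq_one hn)
  rcases r with _ | r
  · exact absurd (orderOf_eq_one_iff.mp (by simpa using hr)) hx1
  refine ⟨2 ^ r, inv2_iff.mpr ?_⟩
  rw [orderOf_pow_of_dvd (by positivity) (hr ▸ pow_dvd_pow 2 (by omega)), hr,
    Nat.pow_div (by omega) two_pos, show r + 1 - r = 1 by omega, pow_one]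

/-- In a TI group a non-trivial element lies in one Sylow 2-subgroup only. -/
theorem ti_eq_of_mem (h : TI G) {S T : Sylow 2 G} {x : G} (hx1 : x ≠ 1) (hS : x ∈ (S : Subgroup G))
    (hT : x ∈ (T : Subgroup G)) : S = T := by
  obtain ⟨n, hn⟩ := S.2 ⟨x, hS⟩
  obtain ⟨k, hk⟩ := exists_involution_pow ⟨n, congrArg Subtype.val hn⟩ hx1
  exact h S T _ hk (pow_mem hS k) (pow_mem hT k)

theorem ci_of_ti (h : TI G) : CI G := by
  intro S T hne
  have : (S : Subgroup G) ⊓ (T : Subgroup G) = ⊥ :=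
    (Subgroup.eq_bot_iff_forall _).mpr fun x hx => by
      by_contra hx1
      exact hne (ti_eq_of_mem h hx1 hx.1 hx.2)
  rw [this]
  exact isCyclic_of_subsingleton

/-- An element of odd prime order fixing a Sylow subgroup centralises only elements of square one in it. -/
def CentSq (G : Type u) [Group G] : Prop :=
  ∀ (T : Sylow 2 G) (p : ℕ) (x w : G), p.Prime → p ≠ 2 → orderOf x = p → x • T = T → w ∈ (T : Subgroup G) →
    x * w = w * x → w * w = 1

end General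

/-- The set-up. -/
structure Ctx (G : Type u) [Group G] [Finite G] [IsSimpleGroup G] (S : Sylow 2 G) (t : G) : Prop where
  nonab : ¬ IsMulCommutative G
  ti : TI G
  setup : Cfsg.IsRankOneSetup G (Sylow 2 G) S t (S : Subgroup G)
  four : CfsgLib.SuzukiRankOne.Four G
  concl : CfsgLib.SuzukiRankOne.Concl S t (S : Subgroup G)

variable {G : Type u} [Group G] [Finite G] [IsSimpleGroup G]

theorem exists_ctx (hG : ¬ IsMulCommutative G) (h : TI G) (S : Sylow 2 G) : ∃ t : G, Ctx G S t := by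
  obtain ⟨t, h1, h2, h3⟩ := exists_setup_ti partB hG (ci_of_ti h) h S
  exact ⟨t, hG, h, h1, h2, h3⟩

variable {S : Sylow 2 G} {t : G} (c : Ctx G S t)
include c

theorem Ctx.central {z : G} (hzS : z ∈ (S : Subgroup G)) (hz : z * z = 1) {s : G} (hs : s ∈ (S : Subgroup G)) :
    z * s = s * z := by
  haveI := faithful_sylow c.nonab
  rcases eq_or_ne z 1 with rfl | h1
  · rw [one_mul, mul_one]
  · exact CfsgLib.RankOne.invol_central c.setup c.four
      ⟨mem_stabilizer_iff.mpr (smul_eq_of_mem hzS), h1, hz⟩ hs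

/-- The elements of square one of `S`. -/
def Ctx.Z : Subgroup G where
  carrier := {x | x ∈ (S : Subgroup G) ∧ x * x = 1}
  one_mem' := ⟨one_mem _, one_mul 1⟩
  mul_mem' := fun {x y} hx hy => ⟨mul_mem hx.1 hy.1, by
    rw [show x * y * (x * y) = x * (y * x) * y by group, c.central hy.1 hy.2 hx.1,
      show x * (x * y) * y = x * x * (y * y) by group, hx.2, hy.2, one_mul]⟩
  inv_mem' := fun {x} hx => ⟨inv_mem hx.1, by rw [← mul_inv_rev, hx.2, inv_one]⟩

theorem Ctx.mem_Z {x : G} : x ∈ c.Z ↔ x ∈ (S : Subgroup G) ∧ x * x = 1 := Iff.rfl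

theorem Ctx.Z_le : c.Z ≤ (S : Subgroup G) := fun _ h => h.1

theorem Ctx.sq_mem {x : G} (hx : x ∈ (S : Subgroup G)) : x * x ∈ c.Z :=
  ⟨mul_mem hx hx, ti_sq partB c.nonab (ci_of_ti c.ti) c.ti S hx⟩

theorem Ctx.comm_mem {x y : G} (hx : x ∈ (S : Subgroup G)) (hy : y ∈ (S : Subgroup G)) :
    x * y * x⁻¹ * y⁻¹ ∈ c.Z := by
  rw [show x * y * x⁻¹ * y⁻¹ = x * x * (x⁻¹ * y * (x⁻¹ * y)) * (y⁻¹ * y⁻¹) by group]
  exact mul_mem (mul_mem (c.sq_mem hx) (c.sq_mem (mul_mem (inv_mem hx) hy))) (c.sq_mem (inv_mem hy))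

/-- Subgroups between `Z` and `S` are normal in `S`. -/
theorem Ctx.conj_mem_of_le {K : Subgroup G} (hZ : c.Z ≤ K) (hK : K ≤ (S : Subgroup G)) {x w : G}
    (hx : x ∈ (S : Subgroup G)) (hw : w ∈ K) : x * w * x⁻¹ ∈ K := by
  rw [show x * w * x⁻¹ = x * w * x⁻¹ * w⁻¹ * w by group]
  exact mul_mem (hZ (c.comm_mem hx (hK hw))) hw

theorem Ctx.conj_mem_S {g x : G} (hg : g • S = S) (hx : x ∈ (S : Subgroup G)) :
    g * x * g⁻¹ ∈ (S : Subgroup G) := CfsgLib.RankOne.conj_Q c.setup hg hx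

theorem Ctx.conj_mem_Z {g x : G} (hg : g • S = S) (hx : x ∈ c.Z) : g * x * g⁻¹ ∈ c.Z :=
  ⟨c.conj_mem_S hg hx.1, by rw [conj_mul, hx.2, mul_one, mul_inv_cancel]⟩

theorem Ctx.card_Z : Nat.card c.Z = CfsgLib.SuzukiRankOne.qZ G S := by
  haveI := faithful_sylow c.nonab
  rw [← CfsgLib.SuzukiRankOne.card_sq_one c.setup]
  exact Nat.card_congr
    { toFun := fun z => ⟨⟨z, z.2.1⟩, Subtype.ext z.2.2⟩
      invFun := fun z => ⟨z.1, z.1.2, congrArg Subtype.val z.2⟩
      left_inv := fun _ => rfl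
      right_inv := fun _ => rfl }

theorem Ctx.three_le : 3 ≤ Nat.card c.Z := by
  haveI := faithful_sylow c.nonab
  rw [c.card_Z]
  exact CfsgLib.SuzukiRankOne.three_le_qZ c.setup c.four

theorem Ctx.exists_inv_Z : ∃ z ∈ c.Z, Inv2 z := by
  obtain ⟨z, hza, hz1, hz2⟩ := CfsgLib.RankOne.exists_invol c.setup
  exact ⟨z, ⟨CfsgLib.RankOne.invol_mem_Q c.setup hza hz2, hz2⟩, hz1, hz2⟩

/-- A central element of `S` has square one. -/
theorem Ctx.mem_Z_of_central {x : G} (hx : x ∈ (S : Subgroup G))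
    (hc : ∀ s ∈ (S : Subgroup G), x * s = s * x) : x ∈ c.Z := by
  haveI := faithful_sylow c.nonab
  haveI : Fact (Nat.Prime 2) := ⟨Nat.prime_two⟩
  refine ⟨hx, ?_⟩
  by_cases hab : ∀ a ∈ (S : Subgroup G), ∀ b ∈ (S : Subgroup G), a * b = b * a
  · exact ti_abelian partB c.nonab (ci_of_ti c.ti) c.ti S hab hx
  push Not at hab
  obtain ⟨a, ha, b, hb, hab⟩ := hab
  have hT : IsPGroup 2 (⊤ : Subgroup ↥(S : Subgroup G)) := S.2.of_equiv Subgroup.topEquiv.symm
  obtain ⟨U, hU⟩ := hT.exists_le_sylow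
  have hUt : (U : Subgroup ↥(S : Subgroup G)) = ⊤ := top_le_iff.mp hU
  have hmem : ∀ z : ↥(S : Subgroup G), z ∈ (U : Subgroup ↥(S : Subgroup G)) := fun z => hUt ▸ Subgroup.mem_top z
  rcases Cfsg.Agent.S1132.result c.setup c.four U with hcomm | hsuz
  · exact absurd (congrArg (fun z : (U : Subgroup ↥(S : Subgroup G)) => ((z : ↥(S : Subgroup G)) : G))
      (hcomm.is_comm.comm ⟨⟨a, ha⟩, hmem _⟩ ⟨⟨b, hb⟩, hmem _⟩)) hab
  · have h1 := (Cfsg.Agent.S1137.result hsuz).2 ⟨⟨x, hx⟩, hmem _⟩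
      (Subgroup.mem_center_iff.mpr fun g => Subtype.ext (Subtype.ext (hc g.1 g.1.2).symm))
    exact congrArg (fun z : (U : Subgroup ↥(S : Subgroup G)) => ((z : ↥(S : Subgroup G)) : G)) h1

/-- The centre of `S` is `Z`. -/
theorem Ctx.center_eq : (Subgroup.center (S : Subgroup G)).map (S : Subgroup G).subtype = c.Z := by
  ext x
  constructor
  · rintro ⟨y, hy, rfl⟩
    exact c.mem_Z_of_central y.2 fun s hs =>
      (congrArg Subtype.val (Subgroup.mem_center_iff.mp hy ⟨s, hs⟩)).symm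
  · intro hx
    exact ⟨⟨x, hx.1⟩, Subgroup.mem_center_iff.mpr fun s => Subtype.ext (c.central hx.1 hx.2 s.2).symm, rfl⟩

theorem Ctx.fixed_inj {w w' : G} (hw : w ∈ (S : Subgroup G)) (hw' : w' ∈ (S : Subgroup G)) {U : Sylow 2 G}
    (hU : U ≠ S) (h : w • U = w' • U) : w = w' := by
  have := CfsgLib.RankOne.eq_one_of_fix c.setup (mul_mem (inv_mem hw') hw) hU
    (by rw [mul_smul, h, inv_smul_smul])
  exact (inv_mul_eq_one.mp this).symm

theorem Ctx.exists_fix_other {p : ℕ} (hp : p.Prime) (hp2 : p ≠ 2) {x : G} (hx : x ^ p = 1) (hxS : x • S = S) :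
    ∃ U : Sylow 2 G, U ≠ S ∧ x • U = U := by
  classical
  haveI : Fact (Nat.Prime 2) := ⟨Nat.prime_two⟩
  refine exists_fixed_of_invariant hp hx {U : Sylow 2 G | U ≠ S} (fun U => ?_) ?_
  · show x • U ≠ S ↔ U ≠ S
    conv_lhs => rw [← hxS]
    rw [ne_eq, smul_left_cancel_iff]
  · have hcard : Nat.card {U : Sylow 2 G | U ≠ S} = Nat.card (S : Subgroup G) := by
      have h1 := CfsgLib.RankOne.card_points c.setup
      have h2 := Nat.card_congr (Equiv.optionSubtypeNe S)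
      rw [Finite.card_option, h1] at h2
      exact Nat.succ_injective h2
    rw [hcard]
    obtain ⟨n, hn⟩ := IsPGroup.iff_card.mp S.2
    rw [hn]
    exact fun h => hp2 ((Nat.prime_dvd_prime_iff_eq hp Nat.prime_two).mp (hp.dvd_of_dvd_pow h))

/-- An element of odd prime order fixing `S` acts fixed point freely modulo invariant subgroups above `Z`. -/
theorem Ctx.fpf (hC : CentSq G) {p : ℕ} (hp : p.Prime) (hp2 : p ≠ 2) {x : G} (hx : orderOf x = p)
    (hxS : x • S = S) {K : Subgroup G} (hZ : c.Z ≤ K) (hK : K ≤ (S : Subgroup G))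
    (hKx : ∀ w ∈ K, x * w * x⁻¹ ∈ K) {g : G} (hg : g ∈ (S : Subgroup G)) (hgx : x * g * x⁻¹ * g⁻¹ ∈ K) :
    g ∈ K := by
  have hxp : x ^ p = 1 := hx ▸ pow_orderOf_eq_one x
  obtain ⟨U, hU, hxU⟩ := c.exists_fix_other hp hp2 hxp hxS
  let f : K → Sylow 2 G := fun w => ((w : G) * g) • U
  have hf : Function.Injective f := fun w w' h => Subtype.ext (mul_right_cancel
    (c.fixed_inj (mul_mem (hK w.2) hg) (mul_mem (hK w'.2) hg) hU h))
  have hmap : ∀ V ∈ Set.range f, x • V ∈ Set.range f := by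
    rintro _ ⟨w, rfl⟩
    refine ⟨⟨_, mul_mem (hKx w w.2) hgx⟩, ?_⟩
    show (x * w * x⁻¹ * (x * g * x⁻¹ * g⁻¹) * g) • U = x • ((w : G) * g) • U
    rw [show x * (w : G) * x⁻¹ * (x * g * x⁻¹ * g⁻¹) * g = x * ((w : G) * g) * x⁻¹ by group]
    conv_lhs => rw [← hxU]
    rw [mul_smul, inv_smul_smul, mul_smul]
  have hinv : ∀ V, x • V ∈ Set.range f ↔ V ∈ Set.range f := fun V => by
    refine ⟨fun h => ?_, hmap V⟩
    have key : ∀ n : ℕ, x ^ n • x • V ∈ Set.range f := fun n => by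
      induction n with
      | zero => rwa [pow_zero, one_smul]
      | succ n ih => rw [pow_succ', mul_smul]; exact hmap _ ih
    have := key (p - 1)
    rwa [← mul_smul, ← pow_succ, Nat.sub_add_cancel hp.one_lt.le, hxp, one_smul] at this
  obtain ⟨V, ⟨w, rfl⟩, hfix⟩ := exists_fixed_of_invariant hp hxp (Set.range f) hinv (by
    rw [Nat.card_range_of_injective hf]
    obtain ⟨n, hn⟩ := IsPGroup.iff_card.mp (S.2.to_le hK)
    rw [hn]
    exact fun h => hp2 ((Nat.prime_dvd_prime_iff_eq hp Nat.prime_two).mp (hp.dvd_of_dvd_pow h)))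
  have hu : (w : G) * g ∈ (S : Subgroup G) := mul_mem (hK w.2) hg
  have h1 : x * ((w : G) * g) * x⁻¹ = (w : G) * g := by
    refine c.fixed_inj (c.conj_mem_S hxS hu) hu hU ?_
    conv_lhs => rw [← hxU]
    rw [mul_smul (x * ((w : G) * g)), inv_smul_smul, mul_smul x]
    exact hfix
  have h2 : (w : G) * g ∈ K := hZ ⟨hu, hC S p x _ hp hp2 hx hxS hu (mul_inv_eq_iff_eq_mul.mp h1)⟩
  simpa using mul_mem (inv_mem w.2) h2

omit [IsSimpleGroup G] c in
/-- A non-trivial element of odd order has a power of odd prime order. -/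
theorem exists_prime_pow {e : G} (he : Odd (orderOf e)) (he1 : e ≠ 1) :
    ∃ (p k : ℕ), p.Prime ∧ p ≠ 2 ∧ orderOf (e ^ k) = p := by
  obtain ⟨p, hp, hd⟩ := Nat.exists_prime_and_dvd (mt orderOf_eq_one_iff.mp he1)
  refine ⟨p, orderOf e / p, hp, ?_, ?_⟩
  · rintro rfl
    exact Nat.not_even_iff_odd.mpr he (even_iff_two_dvd.mpr hd)
  · exact orderOf_pow_orderOf_div (orderOf_pos e).ne' hd

/-- The same for any element of odd order. -/
theorem Ctx.fpf_odd (hC : CentSq G) {e : G} (he : Odd (orderOf e)) (he1 : e ≠ 1) (heS : e • S = S)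
    {K : Subgroup G} (hZ : c.Z ≤ K) (hK : K ≤ (S : Subgroup G)) (hKe : ∀ w ∈ K, e * w * e⁻¹ ∈ K) {g : G}
    (hg : g ∈ (S : Subgroup G)) (hge : e * g * e⁻¹ * g⁻¹ ∈ K) : g ∈ K := by
  obtain ⟨p, k, hp, hp2, hk⟩ := exists_prime_pow he he1
  have key : ∀ n : ℕ, (∀ w ∈ K, e ^ n * w * (e ^ n)⁻¹ ∈ K) ∧ e ^ n * g * (e ^ n)⁻¹ * g⁻¹ ∈ K := fun n => by
    induction n with
    | zero => simp [one_mem]
    | succ n ih =>
      refine ⟨fun w hw => ?_, ?_⟩
      · rw [pow_succ', show e * e ^ n * w * (e * e ^ n)⁻¹ = e * (e ^ n * w * (e ^ n)⁻¹) * e⁻¹ by group]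
        exact hKe _ (ih.1 w hw)
      · rw [pow_succ', show e * e ^ n * g * (e * e ^ n)⁻¹ * g⁻¹ =
          e * (e ^ n * g * (e ^ n)⁻¹ * g⁻¹) * e⁻¹ * (e * g * e⁻¹ * g⁻¹) by group]
        exact mul_mem (hKe _ ih.2) hge
  exact c.fpf hC hp hp2 hk (pow_smul_fixed heS k) hZ hK (key k).1 hg (key k).2

theorem Ctx.odd_D {d : G} (hd : d ∈ CfsgLib.RankOne.D S t) : Odd (orderOf d) :=
  c.setup.odd_card.of_dvd_nat (Subgroup.orderOf_dvd_natCard _ hd)

/-- Distinct elements of `D` give distinct cosets `d y d⁻¹ Z`. -/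
theorem Ctx.conj_coset_inj (hC : CentSq G) {y : G} (hy : y ∈ (S : Subgroup G)) (hy2 : y * y ≠ 1) :
    Function.Injective (fun p : CfsgLib.RankOne.D S t × c.Z => (p.1 : G) * y * (p.1 : G)⁻¹ * p.2) := by
  rintro ⟨d, z⟩ ⟨d', z'⟩ h
  have h' : (d : G) * y * (d : G)⁻¹ * z = d' * y * (d' : G)⁻¹ * z' := h
  by_cases hd : d = d'
  · subst hd
    exact Prod.ext rfl (Subtype.ext (mul_left_cancel h'))
  exfalso
  set e : G := (d' : G)⁻¹ * d with he
  have heD : e ∈ CfsgLib.RankOne.D S t := mul_mem (inv_mem d'.2) d.2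
  have he1 : e ≠ 1 := fun e1 => hd (Subtype.ext (inv_mul_eq_one.mp e1).symm)
  have heS : e • S = S := ((CfsgLib.RankOne.mem_D c.setup).mp heD).1
  have hd'S : ((d' : G)⁻¹) • S = S := ((CfsgLib.RankOne.mem_D c.setup).mp (inv_mem d'.2)).1
  have hz : (d' : G)⁻¹ * ((z' : G) * (z : G)⁻¹) * (d' : G) ∈ c.Z := by
    simpa using c.conj_mem_Z hd'S (mul_mem z'.2 (inv_mem z.2))
  have hcomm : e * y * e⁻¹ * y⁻¹ ∈ c.Z := by
    have : e * y * e⁻¹ * y⁻¹ = y * ((d' : G)⁻¹ * ((z' : G) * (z : G)⁻¹) * d') * y⁻¹ := by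
      rw [he, show (d' : G)⁻¹ * d * y * ((d' : G)⁻¹ * d)⁻¹ = (d' : G)⁻¹ * ((d : G) * y * (d : G)⁻¹ * z) * (z : G)⁻¹ * d'
        by group, h']
      group
    rw [this]
    exact c.conj_mem_of_le le_rfl c.Z_le hy hz
  exact hy2 (c.fpf_odd hC (c.odd_D heD) he1 heS le_rfl c.Z_le (fun w hw => c.conj_mem_Z heS hw) hy hcomm).2

theorem Ctx.card_D_le (hC : CentSq G) {y : G} (hy : y ∈ (S : Subgroup G)) (hy2 : y * y ≠ 1) :
    Nat.card (CfsgLib.RankOne.D S t) * Nat.card c.Z + Nat.card c.Z ≤ Nat.card (S : Subgroup G) := by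
  let f : CfsgLib.RankOne.D S t × c.Z ⊕ c.Z → (S : Subgroup G) := Sum.elim
    (fun p => ⟨(p.1 : G) * y * (p.1 : G)⁻¹ * p.2,
      mul_mem (c.conj_mem_S ((CfsgLib.RankOne.mem_D c.setup).mp p.1.2).1 hy) p.2.2.1⟩)
    (fun z => ⟨z, z.2.1⟩)
  have hout : ∀ p : CfsgLib.RankOne.D S t × c.Z, (p.1 : G) * y * (p.1 : G)⁻¹ * p.2 ∉ c.Z := fun p hp => by
    have hdS := ((CfsgLib.RankOne.mem_D c.setup).mp (inv_mem p.1.2)).1
    have h1 := c.conj_mem_Z hdS (by simpa using mul_mem hp (inv_mem p.2.2) : (p.1 : G) * y * (p.1 : G)⁻¹ ∈ c.Z)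
    exact hy2 (by simpa [mul_assoc] using h1.2)
  have hf : Function.Injective f := by
    rintro (p | z) (p' | z') h
    · exact congrArg Sum.inl (c.conj_coset_inj hC hy hy2 (congrArg Subtype.val h))
    · have e : (p.1 : G) * y * (p.1 : G)⁻¹ * p.2 = z' := congrArg Subtype.val h
      exact absurd (e ▸ z'.2) (hout p)
    · have e : (p'.1 : G) * y * (p'.1 : G)⁻¹ * p'.2 = z := (congrArg Subtype.val h).symm
      exact absurd (e ▸ z.2) (hout p')
    · exact congrArg Sum.inr (Subtype.ext (congrArg Subtype.val h :))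
  have := Nat.card_le_card_of_injective f hf
  rwa [Nat.card_sum, Nat.card_prod] at this

omit [Finite G] [IsSimpleGroup G] c in
/-- All of `D` is inverted by `t`. -/
def AllInv (S : Sylow 2 G) (t : G) : Prop := ∀ d ∈ CfsgLib.RankOne.D S t, d ∈ Cfsg.invertedBy (CfsgLib.RankOne.D S t) t

theorem Ctx.allInv_of_card (h : Nat.card (CfsgLib.RankOne.D S t) + 1 ≤ Nat.card c.Z) : AllInv S t := by
  haveI := faithful_sylow c.nonab
  have h1 := CfsgLib.SuzukiRankOne.card_inverted_qZ c.setup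
  rw [← c.card_Z] at h1
  intro d hd
  have hsub : Cfsg.invertedBy (CfsgLib.RankOne.D S t) t ⊆ (CfsgLib.RankOne.D S t : Set G) := fun x hx => hx.1
  have heq := Set.eq_of_subset_of_ncard_le hsub (by
    rw [← Nat.card_coe_set_eq, ← Nat.card_coe_set_eq]
    simp only [SetLike.coe_sort_coe]
    omega)
  rw [heq]; exact hd

theorem Ctx.centSq_of_allInv (h : AllInv S t) : CentSq G := by
  haveI : Fact (Nat.Prime 2) := ⟨Nat.prime_two⟩
  haveI := faithful_sylow c.nonab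
  intro T p x w hp hp2 hx hxT hwT hc
  obtain ⟨g, hg⟩ := MulAction.exists_smul_eq G T S
  set x' := g * x * g⁻¹ with hx'
  have hx'p : x' ^ p = 1 := by rw [hx', conj_pow, ← hx, pow_orderOf_eq_one, mul_one, mul_inv_cancel]
  have hgi : g⁻¹ • S = T := inv_smul_eq_iff.mpr hg.symm
  have hx'S : x' • S = S := by rw [hx', mul_smul, mul_smul, hgi, hxT, hg]
  obtain ⟨U, hU, hU'⟩ := c.exists_fix_other hp hp2 hx'p hx'S
  obtain ⟨s, hs, hsU⟩ := CfsgLib.RankOne.exists_Q_ta c.setup hU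
  set k := s⁻¹ * g with hk
  have hkT : k • T = S := by rw [hk, mul_smul, hg, inv_smul_eq_iff, smul_eq_of_mem hs]
  have hki : k⁻¹ • S = T := inv_smul_eq_iff.mpr hkT.symm
  have hxD : k * x * k⁻¹ ∈ CfsgLib.RankOne.D S t := by
    refine (CfsgLib.RankOne.mem_D c.setup).mpr ⟨by rw [mul_smul, mul_smul, hki, hxT, hkT], ?_⟩
    rw [show k * x * k⁻¹ = s⁻¹ * x' * s by rw [hk, hx']; group, mul_smul, mul_smul, hsU, hU', inv_smul_eq_iff, hsU]
  have hwS : k * w * k⁻¹ ∈ (S : Subgroup G) := by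
    have := conj_mem_smul_sylow (g := k) hwT
    rwa [hkT] at this
  have h1 := CfsgLib.RankOne.inverted_cent_Q c.setup (h _ hxD)
    (fun e => hp.one_lt.ne' (hx.symm.trans (orderOf_eq_one_iff.mpr (conj_eq_one_iff.mp e)))) hwS (by
      rw [conj_mul, conj_mul, hc])
  have h2 : w = 1 := conj_eq_one_iff.mp h1
  rw [h2, one_mul]

end CfsgLib.BinaryCoset
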