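import Cfsg.Agent.Lib.BinaryCoset.Forward
import Cfsg.Agent.Lib.CyclicInt.UnitaryDelta

/-!
The two facts about `PSU₃(q)`, `q` even, in the matrix model.

Blueprint: `blueprint/S5735.md`, step 5.
-/

set_option autoImplicit false
set_option linter.unusedSectionVars false
set_option linter.style.haveILetI false

namespace CfsgLib.BinaryCoset

open CfsgLib.PSUBorel CfsgLib.PSU3Min CfsgLib.CyclicInt Matrix
open CfsgLib.Dickson (up)
open scoped Pointwise

variable {F : Type} [Field F] [Fintype F] (c : Conj F) [CharP F 2]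

/-- The projection. -/
abbrev proj : SUs c 3 →* SUs c 3 ⧸ Subgroup.center (SUs c 3) := QuotientGroup.mk' _

theorem proj_eq_one {x : SUs c 3} : proj c x = 1 ↔ x ∈ Subgroup.center (SUs c 3) := QuotientGroup.eq_one_iff x

theorem center_pow_three {z : SUs c 3} (hz : z ∈ Subgroup.center (SUs c 3)) : z ^ 3 = 1 := by
  refine orderOf_dvd_iff_pow_eq_one.mp (dvd_trans ?_ (card_center c).1)
  rw [← Subgroup.orderOf_mk z hz]
  exact orderOf_dvd_natCard _

/-- An element of 2-power order in the centre is trivial. -/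
theorem eq_one_of_two_center {z : SUs c 3} (hz : z ∈ Subgroup.center (SUs c 3)) (h2 : Two z) : z = 1 := by
  obtain ⟨k, hk⟩ := h2
  exact orderOf_eq_one_iff.mp (Nat.eq_one_of_dvd_coprimes
    (Nat.Coprime.pow_left k (by norm_num : Nat.Coprime 2 3)) (orderOf_dvd_of_pow_eq_one hk)
    (orderOf_dvd_of_pow_eq_one (center_pow_three c hz)))

theorem two_of_UG {u : SUs c 3} (hu : u ∈ UG c) : Two u := by
  haveI : Fact (Nat.Prime 2) := ⟨Nat.prime_two⟩
  exact exists_ppow c 2 hu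

theorem proj_inj_UG {u v : SUs c 3} (hu : u ∈ UG c) (hv : v ∈ UG c) (h : proj c u = proj c v) : u = v :=
  inv_mul_eq_one.mp (eq_one_of_two_center c ((proj_eq_one c).mp (by rw [map_mul, map_inv, h, inv_mul_cancel]))
    (two_of_UG c (mul_mem (inv_mem hu) hv)))

/-- Square-one elements of the radical. -/
theorem sq_one_iff {u : SUs c 3} (hu : u ∈ UG c) : u * u = 1 ↔ u.1.1 0 1 = 0 := by
  constructor
  · intro e
    have h02 := mul02 c u u
    rw [e, UU_diag c hu, UU_diag c hu, (UG_rel c hu).1, coe_one] at h02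
    simp at h02
    have h2F : (2 : F) = 0 := CharTwo.two_eq_zero
    have : u.1.1 0 1 * c.σ (u.1.1 0 1) = 0 := by linear_combination h02 + (u.1.1 0 2) * h2F
    exact (mul_eq_zero.1 this).elim id (fun h => (map_eq_zero c.σ).1 h)
  · intro h
    have hb0 : c.σ (1 : F) = -1 := by rw [map_one, CharTwo.neg_eq]
    haveI : CharP (Fix c) 2 := (Fix c).subtype.charP Subtype.val_injective 2
    obtain ⟨x, rfl⟩ := emb2_surj c one_ne_zero hb0 (⟨hu, h⟩ : u ∈ ZG c)
    rw [← map_mul, Dickson.up_mul, CharTwo.add_self_eq_zero, Dickson.up_zero, map_one]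

/-- A triangular element with scalar diagonal whose cube is one is scalar, hence central. -/
theorem scalar_of_cube {b : SUs c 3} (hb : b ∈ BG c) (h1 : b.1.1 1 1 = b.1.1 0 0) (h2 : b.1.1 2 2 = b.1.1 0 0)
    (h3 : b ^ 3 = 1) : (∀ i j, b.1.1 i j = if i = j then b.1.1 0 0 else 0) ∧ b ∈ Subgroup.center (SUs c 3) := by
  obtain ⟨h10, h20, h21⟩ := (mem_BG_iff c).mp hb
  have hl : b.1.1 0 0 ≠ 0 := (diag_entries c hb).1
  have h2F : (2 : F) = 0 := CharTwo.two_eq_zero
  have key : ∀ i j : Fin 3, (b.1.1 * (b.1.1 * b.1.1)) i j = (1 : Matrix (Fin 3) (Fin 3) F) i j := fun i j => by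
    have := congrArg (fun A : SUs c 3 => A.1.1 i j) h3
    simpa [pow_succ, Matrix.mul_assoc] using this
  have e01 := key 0 1
  have e12 := key 1 2
  simp [Matrix.mul_apply, Fin.sum_univ_three, h10, h20, h21, h1, h2] at e01 e12
  have z01 : b.1.1 0 1 = 0 := (mul_eq_zero.mp (show b.1.1 0 0 ^ 2 * b.1.1 0 1 = 0 by
    linear_combination e01 - (b.1.1 0 0 ^ 2 * b.1.1 0 1) * h2F)).resolve_left (pow_ne_zero _ hl)
  have z12 : b.1.1 1 2 = 0 := (mul_eq_zero.mp (show b.1.1 0 0 ^ 2 * b.1.1 1 2 = 0 by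
    linear_combination e12 - (b.1.1 0 0 ^ 2 * b.1.1 1 2) * h2F)).resolve_left (pow_ne_zero _ hl)
  have e02 := key 0 2
  simp [Matrix.mul_apply, Fin.sum_univ_three, h10, h20, h21, h1, h2, z01, z12] at e02
  have z02 : b.1.1 0 2 = 0 := (mul_eq_zero.mp (show b.1.1 0 0 ^ 2 * b.1.1 0 2 = 0 by
    linear_combination e02 - (b.1.1 0 0 ^ 2 * b.1.1 0 2) * h2F)).resolve_left (pow_ne_zero _ hl)
  have hs : ∀ i j, b.1.1 i j = if i = j then b.1.1 0 0 else 0 := fun i j => by
    fin_cases i <;> fin_cases j <;> simp [h10, h20, h21, h1, h2, z01, z12, z02]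
  refine ⟨hs, Subgroup.mem_center_iff.mpr fun g => SUs_ext c ?_⟩
  have hB : b.1.1 = b.1.1 0 0 • (1 : Matrix (Fin 3) (Fin 3) F) := by
    ext i j
    rw [hs i j, Matrix.smul_apply, Matrix.one_apply]
    split <;> simp
  rw [coe_mul, coe_mul, hB, Matrix.mul_smul, Matrix.smul_mul, Matrix.mul_one, Matrix.one_mul]

/-- A Borel element commuting with a radical element of order four has scalar diagonal of cube one. -/
theorem diag_of_commute {b u : SUs c 3} (hb : b ∈ BG c) (hu : u ∈ UG c) (hu2 : u * u ≠ 1) (h : b * u = u * b) :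
    b.1.1 1 1 = b.1.1 0 0 ∧ b.1.1 2 2 = b.1.1 0 0 ∧ b.1.1 0 0 ^ 3 = 1 ∧ c.σ (b.1.1 0 0) = b.1.1 0 0 ^ 2 := by
  have hu1 : u.1.1 0 1 ≠ 0 := fun e => hu2 ((sq_one_iff c hu).mpr e)
  have e := congrArg (fun A : SUs c 3 => A.1.1 0 1) h
  simp only [mul01 c (UG_le c hu), mul01 c hb, UU_diag c hu] at e
  have e' : u.1.1 0 1 * (b.1.1 0 0 - b.1.1 1 1) = 0 := by linear_combination e
  have h11 : b.1.1 1 1 = b.1.1 0 0 := (sub_eq_zero.mp ((mul_eq_zero.mp e').resolve_left hu1)).symm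
  obtain ⟨hl, h22, hd⟩ := diag_entries c hb
  rw [h11] at hd
  have hs : c.σ (b.1.1 0 0) = b.1.1 0 0 ^ 2 := by
    field_simp at hd
    rw [← hd, pow_two]
  have h3 : b.1.1 0 0 ^ 3 = 1 := by
    have h4 := congrArg c.σ hs
    rw [c.invol, map_pow, hs] at h4
    have : b.1.1 0 0 * (b.1.1 0 0 ^ 3 - 1) = 0 := by linear_combination -h4
    exact sub_eq_zero.mp ((mul_eq_zero.mp this).resolve_left hl)
  refine ⟨h11, ?_, h3, hs⟩
  rw [h22, hs]
  exact inv_eq_of_mul_eq_one_right (by linear_combination h3)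

/-- The standard Sylow 2-subgroup of the model. -/
theorem exists_sylow_model : ∃ T : Sylow 2 (SUs c 3 ⧸ Subgroup.center (SUs c 3)),
    (T : Subgroup _) = (UG c).map (proj c) ∧ Nat.card T = c.q ^ 3 ∧
      Nat.card {x : T // x * x = 1} = c.q := by
  haveI : Fact (Nat.Prime 2) := ⟨Nat.prime_two⟩
  have hb0 : c.σ (1 : F) = -1 := by rw [map_one, CharTwo.neg_eq]
  haveI : CharP (Fix c) 2 := (Fix c).subtype.charP Subtype.val_injective 2
  have hcard : Nat.card ((UG c).map (proj c)) = c.q ^ 3 := by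
    rw [← card_UG c]
    refine (Nat.card_congr (Equiv.ofBijective (fun u : UG c =>
      (⟨proj c u, Subgroup.mem_map_of_mem _ u.2⟩ : (UG c).map (proj c))) ⟨fun u v e => Subtype.ext
        (proj_inj_UG c u.2 v.2 (congrArg Subtype.val e)), ?_⟩)).symm
    rintro ⟨_, u, hu, rfl⟩
    exact ⟨⟨u, hu⟩, rfl⟩
  have hidx : ¬ 2 ∣ ((UG c).map (proj c)).index := by
    obtain ⟨m, hm, hc⟩ := card_model c
    have h := Subgroup.card_mul_index ((UG c).map (proj c))
    rw [hcard, hc] at h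
    rw [Nat.eq_of_mul_eq_mul_left (pow_pos (show 0 < c.q from c.one_lt.le) 3) h]
    exact fun h2 => Nat.not_even_iff_odd.mpr hm (even_iff_two_dvd.mpr h2)
  refine ⟨IsPGroup.toSylow (IsPGroup.map (isPGroup_UU c 2) (proj c)) hidx, IsPGroup.toSylow_coe _ _, hcard, ?_⟩
  rw [← card_Fix c one_ne_zero hb0]
  refine (Nat.card_congr (Equiv.ofBijective (fun x : Fix c =>
    (⟨⟨proj c (emb2 c one_ne_zero hb0 (up x)), Subgroup.mem_map_of_mem _ (ZG_le c (emb2_up c one_ne_zero hb0 x))⟩,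
      Subtype.ext (by
        show proj c _ * proj c _ = 1
        rw [← map_mul, ← map_mul, Dickson.up_mul, CharTwo.add_self_eq_zero, Dickson.up_zero, map_one, map_one])⟩ :
      {x : ↥((UG c).map (proj c)) // x * x = 1})) ⟨?_, ?_⟩)).symm
  · intro x y e
    have e1 : proj c (emb2 c one_ne_zero hb0 (up x)) = proj c (emb2 c one_ne_zero hb0 (up y)) :=
      congrArg Subtype.val (congrArg Subtype.val e)
    have := congrArg (fun A : SUs c 3 => A.1.1 0 2)
      (proj_inj_UG c (ZG_le c (emb2_up c one_ne_zero hb0 x)) (ZG_le c (emb2_up c one_ne_zero hb0 y)) e1)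
    simp only [emb2_up_corner, mul_one] at this
    exact Subtype.ext this
  · rintro ⟨⟨_, u, hu, rfl⟩, h⟩
    have h1 : u * u = 1 := proj_inj_UG c (mul_mem hu hu) (one_mem _)
      (by rw [map_mul, map_one]; exact congrArg Subtype.val h)
    obtain ⟨x, rfl⟩ := emb2_surj c one_ne_zero hb0 (⟨hu, (sq_one_iff c hu).mp h1⟩ : u ∈ ZG c)
    exact ⟨x, rfl⟩

theorem centSq_model : CentSq (SUs c 3 ⧸ Subgroup.center (SUs c 3)) := by
  haveI : Fact (Nat.Prime 2) := ⟨Nat.prime_two⟩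
  obtain ⟨T0, hT0, -, -⟩ := exists_sylow_model c
  suffices key : ∀ (p : ℕ) (x w : SUs c 3 ⧸ Subgroup.center (SUs c 3)), p.Prime → p ≠ 2 → orderOf x = p →
      x • T0 = T0 → w ∈ (T0 : Subgroup _) → x * w = w * x → w * w = 1 by
    intro T p x w hp hp2 hx hxT hw hc
    obtain ⟨g, rfl⟩ := MulAction.exists_smul_eq (SUs c 3 ⧸ Subgroup.center (SUs c 3)) T0 T
    have h1 := key p (g⁻¹ * x * g) (g⁻¹ * w * g) hp hp2
      (by rw [show g⁻¹ * x * g = g⁻¹ * x * g⁻¹⁻¹ by rw [inv_inv], CfsgLib.Involutions.orderOf_conj]; exact hx)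
      (by rw [mul_smul, mul_smul, hxT, inv_smul_smul]) (mem_smul_sylow.mp hw)
      (by rw [show g⁻¹ * x * g * (g⁻¹ * w * g) = g⁻¹ * (x * w) * g by group, hc]; group)
    rw [show g⁻¹ * w * g * (g⁻¹ * w * g) = g⁻¹ * (w * w) * g⁻¹⁻¹ by group, conj_eq_one_iff] at h1
    exact h1
  intro p x w hp hp2 hx hxT hw hc
  rw [hT0] at hw
  obtain ⟨u, hu, rfl⟩ := hw
  by_contra hne
  have hu2 : u * u ≠ 1 := fun e => hne (by rw [← map_mul, e, map_one])
  obtain ⟨g, rfl⟩ := QuotientGroup.mk'_surjective _ x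
  have hu1 : u ≠ 1 := fun e => hu2 (by rw [e, one_mul])
  -- `g` lies in the Borel subgroup
  have hgB : g ∈ BG c := by
    have hn : proj c g ∈ Subgroup.normalizer ((T0 : Subgroup (SUs c 3 ⧸ Subgroup.center (SUs c 3))) : Set _) :=
      smul_eq_iff_normalizer.mp hxT
    rw [hT0] at hn
    have h1 := (Subgroup.mem_normalizer_iff''.mp hn (proj c u)).mp (Subgroup.mem_map_of_mem _ hu)
    obtain ⟨v, hv, hve⟩ := h1
    have hconj : g⁻¹ * u * g = v := by
      have hz : v⁻¹ * (g⁻¹ * u * g) ∈ Subgroup.center (SUs c 3) := (proj_eq_one c).mp (by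
        simp only [map_mul, map_inv] at hve ⊢
        rw [← hve, inv_mul_cancel])
      refine (inv_mul_eq_one.mp (eq_one_of_two_center c hz ?_)).symm
      obtain ⟨k, hk⟩ := two_of_UG c hu
      obtain ⟨m, hm⟩ := two_of_UG c (inv_mem hv)
      refine ⟨m + k, ?_⟩
      have hcm : Commute v⁻¹ (g⁻¹ * u * g) := by
        have h := Subgroup.mem_center_iff.mp hz v⁻¹
        exact mul_left_cancel (a := v⁻¹) (by simpa [mul_assoc] using h.symm) |> fun e => e.symm
      rw [hcm.mul_pow, pow_add, pow_mul, hm, one_pow, one_mul, mul_comm, pow_mul,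
        show g⁻¹ * u * g = g⁻¹ * u * g⁻¹⁻¹ by rw [inv_inv], conj_pow, hk, mul_one, mul_inv_cancel, one_pow]
    exact ti c hu hu1 (hconj ▸ hv)
  have hcomm : g * u = u * g := by
    refine mul_inv_eq_iff_eq_mul.mp (proj_inj_UG c (conj_UG c hgB hu) hu ?_)
    rw [map_mul, map_mul, map_inv]
    exact mul_inv_eq_iff_eq_mul.mpr hc
  obtain ⟨h11, h22, h3, -⟩ := diag_of_commute c hgB hu hu2 hcomm
  have hU : g ^ 3 ∈ UG c := mem_UG_of_corner c (pow_mem hgB 3) (by
    rw [pow_succ, pow_two, mul00 c hgB, mul00 c hgB]; linear_combination h3)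
  have hg3 : g ^ 3 = 1 := by
    refine proj_inj_UG c hU (one_mem _) ?_
    rw [map_one]
    obtain ⟨k, hk⟩ := two_of_UG c hU
    refine orderOf_eq_one_iff.mp (Nat.eq_one_of_dvd_coprimes (a := 2 ^ k) (b := p)
      (((Nat.coprime_primes Nat.prime_two hp).mpr (Ne.symm hp2)).pow_left k)
      (orderOf_dvd_of_pow_eq_one (by rw [← map_pow, hk, map_one])) ?_)
    rw [map_pow, ← hx]
    exact orderOf_pow_dvd 3
  exact hp.one_lt.ne' (by
    rw [← hx, (proj_eq_one c).mpr (scalar_of_cube c hgB h11 h22 hg3).2, orderOf_one])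

/-- A centre of order three gives the four-witness. -/
theorem fourWitness_model (hz : Nontrivial (Subgroup.center (SUs c 3))) :
    FourWitness (SUs c 3 ⧸ Subgroup.center (SUs c 3)) := by
  haveI : Fact (Nat.Prime 2) := ⟨Nat.prime_two⟩
  obtain ⟨T0, hT0, -, -⟩ := exists_sylow_model c
  suffices key : ∀ y : SUs c 3 ⧸ Subgroup.center (SUs c 3), y ∈ (T0 : Subgroup _) → y * y ≠ 1 →
      ∃ z ∈ (T0 : Subgroup (SUs c 3 ⧸ Subgroup.center (SUs c 3))), z * z = 1 ∧
        ∃ w : SUs c 3 ⧸ Subgroup.center (SUs c 3), Inv2 w ∧ w ∉ (T0 : Subgroup _) ∧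
        Two (w * (y * z)) ∧ w * (y * z) * (w * (y * z)) ≠ 1 by
    intro T y hy hy2
    obtain ⟨g, rfl⟩ := MulAction.exists_smul_eq (SUs c 3 ⧸ Subgroup.center (SUs c 3)) T0 T
    have hc : ∀ v, g⁻¹ * v * g * (g⁻¹ * v * g) = g⁻¹ * (v * v) * g⁻¹⁻¹ := fun v => by group
    obtain ⟨z, hz, hz2, w, hw, hwT, ⟨k, hk⟩, hne⟩ := key (g⁻¹ * y * g) (mem_smul_sylow.mp hy)
      (by rw [hc, ne_eq, conj_eq_one_iff]; exact hy2)
    refine ⟨g * z * g⁻¹, conj_mem_smul_sylow hz, by rw [conj_mul, hz2, mul_one, mul_inv_cancel], g * w * g⁻¹,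
      hw.conj g, ?_, ?_, ?_⟩
    · rw [mem_smul_sylow]
      simpa [mul_assoc] using hwT
    · refine ⟨k, ?_⟩
      rw [show g * w * g⁻¹ * (y * (g * z * g⁻¹)) = g * (w * (g⁻¹ * y * g * z)) * g⁻¹ by group, conj_pow, hk,
        mul_one, mul_inv_cancel]
    · intro h
      rw [show g * w * g⁻¹ * (y * (g * z * g⁻¹)) = g * (w * (g⁻¹ * y * g * z)) * g⁻¹ by group, conj_mul,
        conj_eq_one_iff] at h
      exact hne h
  intro y hy hy2
  rw [hT0] at hy ⊢
  obtain ⟨u, hu, rfl⟩ := hy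
  have hu2 : u * u ≠ 1 := fun e => hy2 (by rw [← map_mul, e, map_one])
  set a := u.1.1 0 1 with ha
  have ha0 : a ≠ 0 := fun e => hu2 ((sq_one_iff c hu).mpr e)
  -- the scalar
  obtain ⟨⟨z0, hz0⟩, hne⟩ := exists_ne (1 : Subgroup.center (SUs c 3))
  have hz0B : z0 ∈ BG c := center_le_BG c hz0
  obtain ⟨hw11, hw22, hw3, hσ⟩ := diag_of_commute c hz0B hu hu2 ((Subgroup.mem_center_iff.mp hz0 u).symm)
  set ω := z0.1.1 0 0 with hω
  have hz03 := center_pow_three c hz0
  have hscal := (scalar_of_cube c hz0B hw11 hw22 hz03).1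
  have hω1 : ω ≠ 1 := fun e => hne (Subtype.ext (SUs_ext c (by
    ext i j
    rw [hscal i j]
    show (if i = j then ω else 0) = _
    rw [e]
    show (if i = j then (1 : F) else 0) = (1 : Matrix (Fin 3) (Fin 3) F) i j
    rw [Matrix.one_apply])))
  have h2F : (2 : F) = 0 := CharTwo.two_eq_zero
  have hω2 : ω ^ 2 + ω + 1 = 0 := (mul_eq_zero.mp (show (ω - 1) * (ω ^ 2 + ω + 1) = 0 by
    linear_combination hw3)).resolve_left (sub_ne_zero.mpr hω1)
  obtain ⟨h12, hrel⟩ := UG_rel c hu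
  rw [CharTwo.neg_eq] at h12
  set b := u.1.1 0 2 with hb
  obtain ⟨x, hx⟩ : ∃ x : F, x = a * c.σ a := ⟨_, rfl⟩
  have hx0 : x ≠ 0 := hx ▸ mul_ne_zero ha0 ((map_ne_zero c.σ).mpr ha0)
  have hσx : c.σ x = x := by rw [hx, map_mul, c.invol, mul_comm]
  have hbx : b + c.σ b = x := by linear_combination hrel + hx - x * h2F
  have hb0 : c.σ (1 : F) = -1 := by rw [map_one, CharTwo.neg_eq]
  let s : Fix c := ⟨ω ^ 2 * x + b, by
    rw [mem_Fix, map_add, map_mul, map_pow, hσ, hσx]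
    linear_combination (ω * x) * hw3 - x * hω2 + hbx + (x * ω - b + x) * h2F⟩
  haveI : CharP (Fix c) 2 := (Fix c).subtype.charP Subtype.val_injective 2
  obtain ⟨wF, hwF⟩ : ∃ w : Matrix.SpecialLinearGroup (Fin 2) (Fix c), w.1 = !![0, 1; 1, 0] :=
    ⟨⟨_, by simp [Matrix.det_fin_two, CharTwo.neg_eq]⟩, rfl⟩
  let zs : SUs c 3 := emb2 c one_ne_zero hb0 (up s)
  have hzs : zs ∈ UG c := ZG_le c (emb2_up c one_ne_zero hb0 s)
  have hzs2 : zs * zs = 1 := by
    rw [← map_mul, Dickson.up_mul, CharTwo.add_self_eq_zero, Dickson.up_zero, map_one]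
  let t0 : SUs c 3 := dg c (Units.mk0 x hx0) * emb2 c one_ne_zero hb0 wF
  have ht0 : t0.1.1 = !![0, 0, x; 0, 1, 0; x⁻¹, 0, 0] := by
    rw [coe_mul]
    ext i j
    fin_cases i <;> fin_cases j <;>
      simp [dg, emb2, hwF, Matrix.mul_apply, Fin.sum_univ_three, hσx, hx0]
  have ht2 : t0 * t0 = 1 := SUs_ext c (by
    rw [coe_mul, ht0, coe_one]
    ext i j
    fin_cases i <;> fin_cases j <;> simp [Matrix.mul_apply, Fin.sum_univ_three, hx0])
  have ht0B : t0 ∉ BG c := fun h => by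
    have := ((mem_BG_iff c).mp h).2.1
    rw [ht0] at this
    simp [hx0] at this
  have hmemB : ∀ g : SUs c 3, proj c g ∈ (UG c).map (proj c) → g ∈ BG c := by
    rintro g ⟨v, hv, e⟩
    have h1 : v⁻¹ * g ∈ Subgroup.center (SUs c 3) :=
      (proj_eq_one c).mp (by rw [map_mul, map_inv, e, inv_mul_cancel])
    simpa using mul_mem (UG_le c hv) (center_le_BG c h1)
  set g : SUs c 3 := t0 * (u * zs) with hg
  have hgM : g.1.1 = !![0, 0, x; 0, 1, c.σ a; x⁻¹, a * x⁻¹, ω ^ 2] := by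
    have hbs : b + (s : F) = ω ^ 2 * x := by
      show b + (ω ^ 2 * x + b) = ω ^ 2 * x
      linear_combination b * h2F
    obtain ⟨u10, u20, u21⟩ := (mem_BG_iff c).mp (UG_le c hu)
    have e01 : u.1.1 0 1 = a := rfl
    have e02 : u.1.1 0 2 = b := rfl
    have e12 : u.1.1 1 2 = c.σ a := h12
    have hs : b + (s : F) = ω ^ 2 * x := hbs
    have huz : (u * zs).1.1 = !![1, a, ω ^ 2 * x; 0, 1, c.σ a; 0, 0, 1] := by
      rw [coe_mul c u zs]
      ext i j
      fin_cases i <;> fin_cases j <;>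
        simp [zs, emb2, Matrix.mul_apply, Fin.sum_univ_three, u10, u20, u21, UU_diag c hu, e01, e02, e12]
      linear_combination hs
    rw [hg, coe_mul c t0 (u * zs), ht0, huz]
    ext i j
    fin_cases i <;> fin_cases j <;> simp [Matrix.mul_apply, Fin.sum_univ_three] <;> field_simp
  have hN : (g.1.1 + ω • 1) ^ 3 = 0 := by
    rw [hgM, pow_succ, pow_two]
    ext i j
    fin_cases i <;> fin_cases j <;>
      simp [Matrix.mul_apply, Fin.sum_univ_three, Matrix.one_apply] <;> field_simp <;> grind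
  have hg4 : proj c g ^ 4 = 1 := by
    have hc4 : g ^ 4 = z0 := SUs_ext c (by
      have h4 : (g.1.1 + ω • 1) ^ 4 = 0 := by rw [pow_succ, hN, Matrix.zero_mul]
      haveI : CharP (Matrix (Fin 3) (Fin 3) F) 2 := inferInstance
      rw [show (4 : ℕ) = 2 ^ 2 from rfl,
        add_pow_char_pow_of_commute 2 2 (show Commute g.1.1 (ω • 1) from (Commute.one_right _).smul_right ω),
        add_eq_zero_iff_eq_neg, CharTwo.neg_eq, smul_pow, one_pow] at h4
      show (g.1.1) ^ (2 ^ 2) = z0.1.1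
      rw [h4]
      ext i j
      rw [Matrix.smul_apply, Matrix.one_apply, hscal i j, smul_eq_mul]
      split
      · rw [mul_one]; linear_combination ω * hw3
      · rw [mul_zero])
    rw [← map_pow, hc4]
    exact (proj_eq_one c).mpr hz0
  refine ⟨proj c zs, Subgroup.mem_map_of_mem _ hzs, by rw [← map_mul, hzs2, map_one], proj c t0, ⟨?_, ?_⟩, ?_,
    ⟨2, ?_⟩, ?_⟩
  · exact fun h => ht0B (center_le_BG c ((proj_eq_one c).mp h))
  · rw [← map_mul, ht2, map_one]
  · exact fun h => ht0B (hmemB _ h)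
  · rw [← map_mul, ← map_mul]; exact hg4
  · intro h
    rw [← map_mul, ← map_mul, ← map_mul, ← hg, proj_eq_one] at h
    have h1 := ((mem_BG_iff c).mp (center_le_BG c h)).1
    rw [coe_mul, hgM] at h1
    simp [Matrix.mul_apply, Fin.sum_univ_three, hx0, ha0] at h1

end CfsgLib.BinaryCoset
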