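import Cfsg.Agent.Lib.BinaryCoset.Setup

/-!
Three and four point configurations contradicting binarity.

Blueprint: `blueprint/S5735.md`.
-/

set_option autoImplicit false
set_option linter.unusedSectionVars false
set_option linter.style.haveILetI false

namespace CfsgLib.BinaryCoset

open MulAction CfsgLib.CyclicInt Cfsg
open scoped Pointwise

universe u

variable {G : Type u} [Group G] [Finite G] [IsSimpleGroup G] {S : Sylow 2 G} {t : G} (c : Ctx G S t)
  {H : Subgroup G}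
include c

theorem Ctx.mem_of_two {x : G} (hx : Two x) (hxS : x • S = S) : x ∈ (S : Subgroup G) :=
  mem_sylow_of_smul_eq hx hxS

section Bin

variable (hB : Binary G (G ⧸ H))
include hB

/-- No odd element of `H` fixing `S`, if `S` has an element outside `H` meeting `H` inside the stabiliser. -/
theorem Ctx.false_of_odd (hC : CentSq G) (hZH : c.Z ≤ H) {e : G} (heH : e ∈ H) (heS : e • S = S)
    (he : Odd (orderOf e)) (he1 : e ≠ 1) {g : G} (hg : g ∈ (S : Subgroup G)) (hgH : g ∉ H)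
    (hcap : ∀ k ∈ H, g⁻¹ * k * g ∈ H → k • S = S) : False := by
  set W : Subgroup G := H ⊓ (S : Subgroup G) with hW
  have hZW : c.Z ≤ W := le_inf hZH c.Z_le
  have hWS : W ≤ (S : Subgroup G) := inf_le_right
  have hWe : ∀ k ∈ H, k • S = S → ∀ w ∈ W, k * w * k⁻¹ ∈ W := fun k hk hkS w hw =>
    Subgroup.mem_inf.mpr ⟨mul_mem (mul_mem hk hw.1) (inv_mem hk), c.conj_mem_S hkS hw.2⟩
  have hei : e⁻¹ • S = S := inv_smul_eq_iff.mpr heS.symm
  set r := e⁻¹ * g * e with hr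
  have hrS : r ∈ (S : Subgroup G) := by
    have := c.conj_mem_S hei hg
    rwa [inv_inv] at this
  set c' := g * e * g⁻¹ * e⁻¹ with hc'
  have hc'S : c' ∈ (S : Subgroup G) := by
    rw [hc', show g * e * g⁻¹ * e⁻¹ = g * (e * g⁻¹ * e⁻¹) by group]
    exact mul_mem hg (c.conj_mem_S heS (inv_mem hg))
  have hee : (e * e) • S = S := by rw [mul_smul, heS, heS]
  obtain ⟨k0, hk1, hk2, hk3⟩ := hB.three (p1 := ((1 : G) : G ⧸ H)) (p2 := (g : G ⧸ H)) (p3 := (r : G ⧸ H))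
    (q1 := ((1 : G) : G ⧸ H)) (q2 := (g : G ⧸ H)) (q3 := (e * e) • (r : G ⧸ H)) ⟨1, one_smul _ _, one_smul _ _⟩
    ⟨e * e, smul_one_eq.mpr (mul_mem heH heH), rfl⟩
    ⟨g * e * g⁻¹, smul_mk_eq.mpr (by simpa [mul_assoc] using heH), by
      rw [mk_smul, mk_smul, QuotientGroup.eq,
        show (g * e * g⁻¹ * r)⁻¹ * (e * e * r) =
          e * (r⁻¹ * ((e * e)⁻¹ * (c' * c')⁻¹ * (e * e)) * r) by rw [hr, hc']; group]
      refine mul_mem heH (hZH ?_)
      have h1 : (e * e)⁻¹ * (c' * c')⁻¹ * (e * e) ∈ c.Z := by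
        simpa using c.conj_mem_Z (g := (e * e)⁻¹) (inv_smul_eq_iff.mpr hee.symm) (inv_mem (c.sq_mem hc'S))
      simpa using c.conj_mem_of_le le_rfl c.Z_le (inv_mem hrS) h1⟩
  rw [smul_one_eq] at hk1
  rw [smul_mk_eq] at hk2
  have hk0S := hcap k0 hk1 hk2
  have hk0W : k0 ∈ W := by
    refine ⟨hk1, c.mem_of_two ?_ hk0S⟩
    obtain ⟨k, l, hl, hkl⟩ := Nat.exists_eq_two_pow_mul_odd (orderOf_pos k0).ne'
    rcases eq_or_ne l 1 with rfl | hl1
    · exact ⟨k, by rw [show 2 ^ k = orderOf k0 by rw [hkl, mul_one]]; exact pow_orderOf_eq_one k0⟩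
    exfalso
    set x := k0 ^ (2 ^ k) with hx
    have hxo : orderOf x = l := by
      rw [hx, orderOf_pow_of_dvd (by positivity) ⟨l, hkl⟩, hkl, Nat.mul_div_cancel_left _ (by positivity)]
    have hxS : x • S = S := pow_smul_fixed hk0S _
    have hxg : g⁻¹ * x * g ∈ H := by
      have := pow_mem hk2 (2 ^ k)
      rwa [show g⁻¹ * k0 * g = g⁻¹ * k0 * g⁻¹⁻¹ by rw [inv_inv], conj_pow, inv_inv] at this
    have h1 : g⁻¹ * x * g * x⁻¹ ∈ W := by
      refine Subgroup.mem_inf.mpr ⟨mul_mem hxg (inv_mem (pow_mem hk1 _)), ?_⟩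
      rw [show g⁻¹ * x * g * x⁻¹ = g⁻¹ * (x * g * x⁻¹) by group]
      exact mul_mem (inv_mem hg) (c.conj_mem_S hxS hg)
    have h2 : x * g * x⁻¹ * g⁻¹ ∈ W := by
      rw [show x * g * x⁻¹ * g⁻¹ = g * (g⁻¹ * x * g * x⁻¹) * g⁻¹ by group]
      exact c.conj_mem_of_le hZW hWS hg h1
    exact hgH (c.fpf_odd hC (hxo ▸ hl) (fun e1 => hl1 (by rw [← hxo, e1, orderOf_one])) hxS hZW hWS
      (hWe x (pow_mem hk1 _) hxS) hg h2).1
  have hfix : (e * e) • (r : G ⧸ H) = r := by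
    rw [← hk3, smul_mk_eq]
    simpa using (c.conj_mem_of_le hZW hWS (inv_mem hrS) hk0W).1
  rw [smul_mk_eq] at hfix
  have h3 : r⁻¹ * (e * e) * r * (e * e)⁻¹ ∈ W := by
    refine Subgroup.mem_inf.mpr ⟨mul_mem hfix (inv_mem (mul_mem heH heH)), ?_⟩
    rw [show r⁻¹ * (e * e) * r * (e * e)⁻¹ = r⁻¹ * ((e * e) * r * (e * e)⁻¹) by group]
    exact mul_mem (inv_mem hrS) (c.conj_mem_S hee hrS)
  have h4 : e * e * r * (e * e)⁻¹ * r⁻¹ ∈ W := by
    rw [show e * e * r * (e * e)⁻¹ * r⁻¹ = r * (r⁻¹ * (e * e) * r * (e * e)⁻¹) * r⁻¹ by group]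
    exact c.conj_mem_of_le hZW hWS hrS h3
  have hrW : r ∈ W := by
    refine c.fpf_odd hC (e := e * e) (he.of_dvd_nat ?_) (fun e1 => he1 ?_) hee hZW hWS
      (hWe _ (mul_mem heH heH) hee) hrS h4
    · rw [← pow_two]; exact orderOf_pow_dvd 2
    · have h5 : orderOf e ∣ 2 := orderOf_dvd_of_pow_eq_one (by rw [pow_two, e1])
      exact orderOf_eq_one_iff.mp (((Nat.dvd_prime Nat.prime_two).mp h5).resolve_right fun h => by
        rw [h] at he; exact Nat.not_even_iff_odd.mpr he even_two)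
  refine hgH ?_
  have := mul_mem (mul_mem heH hrW.1) (inv_mem heH)
  simpa [hr, mul_assoc] using this

/-- A torus element in `H` when `D` is inverted by `t`. -/
theorem Ctx.false_of_torus (hA : AllInv S t) (hZH : c.Z ≤ H) (hHS : ∀ h ∈ H, h • S = S) {e : G} (heH : e ∈ H)
    (heD : e ∈ CfsgLib.RankOne.D S t) (he1 : e ≠ 1) : False := by
  haveI := faithful_sylow c.nonab
  have ht := c.setup.mul_self
  have hte : t * e * t = e⁻¹ := by
    have := (hA e heD).2
    rwa [CfsgLib.RankOne.inv_t c.setup] at this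
  obtain ⟨heS, hetS⟩ := (CfsgLib.RankOne.mem_D c.setup).mp heD
  obtain ⟨C, hC⟩ := CfsgLib.RankOne.exists_fix c.setup c.setup.ne_one ht
  have hte2 : t * e * (t * e) = 1 := by rw [← mul_assoc, hte, inv_mul_cancel]
  have hte1 : t * e ≠ 1 := fun h => c.setup.not_mem (mem_stabilizer_iff.mpr (by
    rw [eq_inv_of_mul_eq_one_left h, inv_smul_eq_iff, heS]))
  obtain ⟨C', hC'⟩ := CfsgLib.RankOne.exists_fix c.setup hte1 hte2
  obtain ⟨g3, hg3⟩ := MulAction.exists_smul_eq G S C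
  obtain ⟨g4, hg4⟩ := MulAction.exists_smul_eq G S C'
  have hfixp : ∀ (x g : G) (U : Sylow 2 G), x ≠ 1 → x * x = 1 → g • S = U → x • U = U →
      x • (g : G ⧸ H) = g := fun x g U hx1 hx2 hgU hxU => smul_mk_eq.mpr (hZH ⟨c.mem_of_two ⟨1, by
    rw [pow_one, show g⁻¹ * x * g = g⁻¹ * x * g⁻¹⁻¹ by rw [inv_inv], conj_pow, pow_two, hx2, mul_one,
      mul_inv_cancel]⟩ (by rw [mul_smul, mul_smul, hgU, hxU, inv_smul_eq_iff, hgU]),
    by rw [show g⁻¹ * x * g * (g⁻¹ * x * g) = g⁻¹ * (x * x) * g by group, hx2, mul_one, inv_mul_cancel]⟩)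
  have ht3 : t • (g3 : G ⧸ H) = g3 := hfixp t g3 C c.setup.ne_one ht hg3 hC
  have ht4 : (t * e) • (g4 : G ⧸ H) = g4 := hfixp _ g4 C' hte1 hte2 hg4 hC'
  have het : e • (t : G ⧸ H) = t := smul_mk_eq.mpr (by
    rw [CfsgLib.RankOne.inv_t c.setup, hte]; exact inv_mem heH)
  obtain ⟨r, hr1, hr2, hr3, hr4⟩ := hB.four (p1 := ((1 : G) : G ⧸ H)) (p2 := (t : G ⧸ H)) (p3 := (g3 : G ⧸ H))
    (p4 := (g4 : G ⧸ H)) (q1 := ((1 : G) : G ⧸ H)) (q2 := (t : G ⧸ H)) (q3 := (g3 : G ⧸ H))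
    (q4 := e • (g4 : G ⧸ H)) ⟨1, one_smul _ _, one_smul _ _⟩ ⟨1, one_smul _ _, one_smul _ _⟩
    ⟨e, smul_one_eq.mpr heH, rfl⟩ ⟨1, one_smul _ _, one_smul _ _⟩ ⟨e, het, rfl⟩
    ⟨t, ht3, by
      rw [mul_smul] at ht4
      conv_lhs => rw [← ht4]
      rw [smul_smul, ht, one_smul]⟩
  have hmove : ∀ (x g : G), x • (g : G ⧸ H) = g → x • g • S = g • S := fun x g h => by
    have := hHS _ (smul_mk_eq.mp h)
    rwa [mul_smul, mul_smul, inv_smul_eq_iff] at this
  have hrS : r • S = S := hHS r (smul_one_eq.mp hr1)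
  have hrt : r • t • S = t • S := hmove r t hr2
  have hrC : r • C = C := by have := hmove r g3 hr3; rwa [hg3] at this
  have hr : r = 1 := by
    by_contra hne
    rcases CfsgLib.RankOne.inverted_fix c.setup (hA r ((CfsgLib.RankOne.mem_D c.setup).mpr ⟨hrS, hrt⟩)) hne hrC
      with h | h
    · exact CfsgLib.RankOne.ta_ne c.setup (h ▸ hC)
    · refine CfsgLib.RankOne.ta_ne c.setup ?_
      rw [h, CfsgLib.RankOne.smul_smul_t c.setup] at hC
      exact hC.symm
  rw [hr, one_smul] at hr4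
  have heC : e • C' = C' := by have := hmove e g4 hr4.symm; rwa [hg4] at this
  rcases CfsgLib.RankOne.inverted_fix c.setup (hA e heD) he1 heC with h | h
  · rw [h, mul_smul, heS] at hC'
    exact CfsgLib.RankOne.ta_ne c.setup hC'
  · rw [h, mul_smul, hetS, CfsgLib.RankOne.smul_smul_t c.setup] at hC'
    exact CfsgLib.RankOne.ta_ne c.setup hC'.symm

/-- Three elements in conjugates of `H`, one the product of the others. -/
theorem Ctx.false_of_triangle (hHS : H ≤ (S : Subgroup G)) {A B : Sylow 2 G} (hAB : A ≠ B) {x y : G}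
    (hxA : x ∈ (A : Subgroup G)) (hyB : y ∈ (B : Subgroup G)) (hx1 : x ≠ 1) (hy1 : y ≠ 1)
    (hxc : ∃ g : G, g⁻¹ * x * g ∈ H) (hyc : ∃ g : G, g⁻¹ * y * g ∈ H)
    (hxyc : ∃ g : G, g⁻¹ * (y * x) * g ∈ H) : False := by
  obtain ⟨g1, hg1⟩ := hxc
  obtain ⟨g2, hg2⟩ := hyc
  obtain ⟨g3, hg3⟩ := hxyc
  have hy3 : (y * x) • (g3 : G ⧸ H) = g3 := smul_mk_eq.mpr hg3
  obtain ⟨r, hr1, hr2, hr3⟩ := hB.three (p1 := (g1 : G ⧸ H)) (p2 := (g2 : G ⧸ H)) (p3 := (g3 : G ⧸ H))
    (q1 := (g1 : G ⧸ H)) (q2 := (g2 : G ⧸ H)) (q3 := x • (g3 : G ⧸ H)) ⟨1, one_smul _ _, one_smul _ _⟩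
    ⟨x, smul_mk_eq.mpr hg1, rfl⟩
    ⟨y⁻¹, inv_smul_eq_iff.mpr (smul_mk_eq.mpr hg2).symm, by rw [inv_smul_eq_iff, ← mul_smul, hy3]⟩
  have hin : ∀ (z g : G), z • (g : G ⧸ H) = g → z ∈ ((g • S : Sylow 2 G) : Subgroup G) := fun z g h =>
    mem_smul_sylow.mpr (hHS (smul_mk_eq.mp h))
  have hA : g1 • S = A := ti_eq_of_mem c.ti hx1 (hin x g1 (smul_mk_eq.mpr hg1)) hxA
  have hB' : g2 • S = B := ti_eq_of_mem c.ti hy1 (hin y g2 (smul_mk_eq.mpr hg2)) hyB
  have hr : r = 1 := by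
    by_contra hne
    exact hAB (ti_eq_of_mem c.ti hne (hA ▸ hin r g1 hr1) (hB' ▸ hin r g2 hr2))
  rw [hr, one_smul] at hr3
  have h1 := hin x g3 hr3.symm
  have h2 : y ∈ ((g3 • S : Sylow 2 G) : Subgroup G) := by
    simpa using mul_mem (hin _ g3 hy3) (inv_mem h1)
  exact hAB ((ti_eq_of_mem c.ti hx1 hxA h1).trans (ti_eq_of_mem c.ti hy1 h2 hyB))

end Bin

/-- The elements in the same two double cosets as `g`. -/
def twoCosets (t : G) (K : Subgroup G) (g : G) : Set G :=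
  {g' | ∃ k1 ∈ K, ∃ k2 ∈ K, ∃ k3 ∈ K, ∃ k4 ∈ K, g' = k1 * g * k2 ∧ t * g' = k3 * (t * g) * k4}

/-- Pigeonhole on pairs of double cosets. -/
theorem Ctx.exists_fibre {K : Subgroup G} (hSK : (S : Subgroup G) ≤ K) (hK : ∀ k ∈ K, k • S = S) :
    ∃ g : G, g • S ≠ S ∧ g • S ≠ t • S ∧
      (Nat.card (S : Subgroup G) - 1) * Nat.card K * Nat.card ↥(K ⊓ CfsgLib.RankOne.D S t) ≤
        Nat.card (CfsgLib.RankOne.D S t) * Nat.card (twoCosets t K g) := by
  classical
  haveI : Fintype G := Fintype.ofFinite G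
  haveI := faithful_sylow c.nonab
  set D := CfsgLib.RankOne.D S t with hD
  set E := (K ⊓ D).subgroupOf D with hE
  have hform : ∀ g : G, g • S ≠ S → ∃ d : D, ∃ x ∈ (S : Subgroup G), ∃ y ∈ (S : Subgroup G),
      g = x * d * t * y := fun g hg => by
    obtain ⟨p, y, hp, hy, rfl⟩ := CfsgLib.RankOne.exists_form c.setup hg
    obtain ⟨x, hx, d, hd, rfl⟩ := CfsgLib.RankOne.exists_decomp c.setup hp
    exact ⟨⟨d, hd⟩, x, hx, y, hy, rfl⟩
  let lab : G → D ⧸ E := fun g => if h : g • S ≠ S then (((hform g h).choose⁻¹ : D) : D ⧸ E) else ((1 : D) : D ⧸ E)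
  have hlab : ∀ g g', g • S ≠ S → g' • S ≠ S → lab g = lab g' → ∃ k1 ∈ K, ∃ k2 ∈ K, g' = k1 * g * k2 := by
    intro g g' hg hg' h
    obtain ⟨x, hx, y, hy, e1⟩ := (hform g hg).choose_spec
    obtain ⟨x', hx', y', hy', e2⟩ := (hform g' hg').choose_spec
    simp only [lab, dif_pos hg, dif_pos hg', QuotientGroup.eq, inv_inv] at h
    set d := (hform g hg).choose
    set d' := (hform g' hg').choose
    have hd : (d : G) * (d' : G)⁻¹ ∈ K := (Subgroup.mem_subgroupOf.mp h).1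
    refine ⟨x' * ((d : G) * (d' : G)⁻¹)⁻¹ * x⁻¹, mul_mem (mul_mem (hSK hx') (inv_mem hd)) (inv_mem (hSK hx)),
      y⁻¹ * y', mul_mem (inv_mem (hSK hy)) (hSK hy'), ?_⟩
    rw [e1, e2]; group
  let T : Finset G := Finset.univ.filter fun g => g • S ≠ S ∧ g • S ≠ t • S
  have htt : ∀ g : G, g • S ≠ t • S → (t * g) • S ≠ S := fun g hg h => hg (by
    conv_rhs => rw [← h]
    rw [smul_smul, ← mul_assoc, c.setup.mul_self, one_mul])
  -- the complement of `T` lies in two cosets of the stabiliser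
  have hT : Nat.card (S : Subgroup G) * Nat.card D * (Nat.card (S : Subgroup G) - 1) ≤ T.card := by
    have hcard := CfsgLib.RankOne.card_group c.setup
    have hstab := CfsgLib.RankOne.card_stab c.setup
    let f : {g : G // ¬ (g • S ≠ S ∧ g • S ≠ t • S)} → stabilizer G S ⊕ stabilizer G S := fun g =>
      if h : g.1 • S = S then Sum.inl ⟨g, h⟩ else Sum.inr ⟨t * g, by
        have h2 : g.1 • S = t • S := by
          have := g.2
          tauto
        rw [mem_stabilizer_iff, mul_smul, h2, CfsgLib.RankOne.smul_smul_t c.setup]⟩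
    have hf : Function.Injective f := by
      intro g g' h
      by_cases h1 : g.1 • S = S <;> by_cases h2 : g'.1 • S = S <;> simp [f, h1, h2] at h
      all_goals first
        | exact Subtype.ext h
        | exact Subtype.ext (congrArg Subtype.val h :)
    have h1 := Nat.card_le_card_of_injective f hf
    rw [Nat.card_sum, hstab, ← hD] at h1
    have h2 : T.card + Nat.card {g : G // ¬ (g • S ≠ S ∧ g • S ≠ t • S)} = Nat.card G := by
      rw [Nat.card_eq_fintype_card, Nat.card_eq_fintype_card, Fintype.card_subtype, ← Finset.card_univ]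
      exact Finset.card_filter_add_card_filter_not _
    rw [hcard, ← hD] at h2
    obtain ⟨n, hn⟩ : ∃ n, Nat.card (S : Subgroup G) = n + 1 :=
      ⟨Nat.card (S : Subgroup G) - 1, by have := Nat.card_pos (α := (S : Subgroup G)); omega⟩
    rw [hn] at h1 h2 ⊢
    rw [show n + 1 - 1 = n by omega]
    nlinarith
  haveI : Fintype (D ⧸ E) := Fintype.ofFinite _
  have hne : T.Nonempty := by
    rw [← Finset.card_pos]
    refine lt_of_lt_of_le ?_ hT
    have h3 : 3 ≤ Nat.card (S : Subgroup G) :=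
      c.three_le.trans (Nat.le_of_dvd Nat.card_pos (Subgroup.card_dvd_of_le c.Z_le))
    have h4 : 0 < Nat.card D := Nat.card_pos
    exact Nat.mul_pos (Nat.mul_pos (by omega) h4) (by omega)
  let φ : G → (D ⧸ E) × (D ⧸ E) := fun g => (lab g, lab (t * g))
  -- the largest fibre
  obtain ⟨l, -, hl⟩ := Finset.exists_max_image (Finset.univ : Finset ((D ⧸ E) × (D ⧸ E)))
    (fun l => (T.filter fun g => φ g = l).card) ⟨φ hne.choose, Finset.mem_univ _⟩
  have hsum : T.card ≤ (Fintype.card (D ⧸ E) * Fintype.card (D ⧸ E)) * (T.filter fun g => φ g = l).card := by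
    rw [Finset.card_eq_sum_card_fiberwise (f := φ) (t := Finset.univ) (fun g _ => Finset.mem_univ _)]
    refine (Finset.sum_le_card_nsmul _ _ _ fun i hi => hl i hi).trans ?_
    rw [smul_eq_mul, Finset.card_univ, Fintype.card_prod]
  obtain ⟨g, hg⟩ : (T.filter fun g => φ g = l).Nonempty := by
    rw [← Finset.card_pos]
    by_contra h0
    rw [Nat.eq_zero_of_not_pos h0, mul_zero] at hsum
    exact absurd hne.card_pos (by omega)
  simp only [Finset.mem_filter, T, Finset.mem_univ, true_and] at hg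
  refine ⟨g, hg.1.1, hg.1.2, ?_⟩
  have hN : (T.filter fun g => φ g = l).card ≤ Nat.card (twoCosets t K g) := by
    rw [← Nat.card_eq_finsetCard]
    refine Nat.card_le_card_of_injective (fun g' => (⟨g'.1, ?_⟩ : twoCosets t K g))
      (fun a b h => Subtype.ext (congrArg Subtype.val h :))
    have hg' := g'.2
    simp only [Finset.mem_filter, T, Finset.mem_univ, true_and] at hg'
    have h := (hg.2.trans hg'.2.symm)
    obtain ⟨k1, h1, k2, h2, e1⟩ := hlab g g'.1 hg.1.1 hg'.1.1 (congrArg Prod.fst h)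
    obtain ⟨k3, h3, k4, h4, e2⟩ := hlab (t * g) (t * g'.1) (htt g hg.1.2) (htt _ hg'.1.2) (congrArg Prod.snd h)
    exact ⟨k1, h1, k2, h2, k3, h3, k4, h4, e1, e2⟩
  have hfe : Fintype.card (D ⧸ E) * Nat.card ↥(K ⊓ D) = Nat.card D := by
    rw [← Nat.card_eq_fintype_card, Subgroup.card_eq_card_quotient_mul_card_subgroup E,
      Nat.card_congr (Subgroup.subgroupOfEquivOfLe (inf_le_right : K ⊓ D ≤ D)).toEquiv]
  have hKc : Nat.card K ≤ Nat.card (S : Subgroup G) * Nat.card ↥(K ⊓ D) := by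
    rw [← Nat.card_prod]
    refine Nat.card_le_card_of_surjective (fun p => (⟨p.1 * p.2, mul_mem (hSK p.1.2) p.2.2.1⟩ : K)) ?_
    rintro ⟨k, hk⟩
    obtain ⟨x, hx, d, hd, rfl⟩ := CfsgLib.RankOne.exists_decomp c.setup (hK k hk)
    exact ⟨(⟨x, hx⟩, ⟨d, by simpa using mul_mem (inv_mem (hSK hx)) hk, hd⟩), rfl⟩
  set s := Nat.card (S : Subgroup G)
  set e := Nat.card ↥(K ⊓ D)
  set f := Fintype.card (D ⧸ E)
  set N := Nat.card (twoCosets t K g)
  have hpos : 0 < f * e := by rw [hfe]; exact Nat.card_pos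
  refine Nat.le_of_mul_le_mul_left ?_ hpos
  calc f * e * ((s - 1) * Nat.card K * e)
      ≤ f * e * ((s - 1) * (s * e) * e) :=
        Nat.mul_le_mul_left _ (Nat.mul_le_mul_right _ (Nat.mul_le_mul_left _ hKc))
    _ = e * e * (s * (f * e) * (s - 1)) := by ring
    _ ≤ e * e * (f * f * N) :=
        Nat.mul_le_mul_left _ ((hfe.symm ▸ hT).trans (hsum.trans (Nat.mul_le_mul_left _ hN)))
    _ = f * e * (Nat.card D * N) := by rw [← hfe]; ring

/-- No binary action for a subgroup strictly between `S` and its normaliser. -/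
theorem Ctx.false_of_large (hB : Binary G (G ⧸ H)) (hSH : (S : Subgroup G) ≤ H) (hHS : ∀ h ∈ H, h • S = S) :
    Nat.card (S : Subgroup G) - 1 ≤ Nat.card (CfsgLib.RankOne.D S t) := by
  obtain ⟨g, hgS, -, hcount⟩ := c.exists_fibre hSH hHS
  have hN : Nat.card (twoCosets t H g) ≤ Nat.card ↥(H ⊓ CfsgLib.RankOne.D S t) * Nat.card H := by
    rw [← Nat.card_prod]
    refine (Nat.card_le_card_of_injective (α := twoCosets t H g)
      (β := Set.range fun p : ↥(H ⊓ CfsgLib.RankOne.D S t) × H => (p.1 : G) * g * p.2)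
      (fun g' => ⟨g'.1, ?_⟩) fun a b h => Subtype.ext (congrArg Subtype.val h :)).trans
      (Finite.card_range_le _)
    obtain ⟨g', k1, h1, k2, h2, k3, h3, k4, h4, e1, e2⟩ := g'
    have e1' : k1 • (g : G ⧸ H) = (g' : G ⧸ H) := by
      rw [mk_smul, QuotientGroup.eq, e1, ← mul_assoc, inv_mul_cancel, one_mul]
      exact h2
    have e2' : (t * k3 * t) • (g : G ⧸ H) = (g' : G ⧸ H) := by
      rw [mk_smul, QuotientGroup.eq]
      have : g' = t * k3 * t * g * k4 := by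
        calc g' = t * (t * g') := by rw [← mul_assoc, c.setup.mul_self, one_mul]
          _ = t * k3 * t * g * k4 := by rw [e2]; group
      rw [this, ← mul_assoc, inv_mul_cancel, one_mul]
      exact h4
    obtain ⟨r, hr1, hr2, hr3⟩ := hB.three (p1 := ((1 : G) : G ⧸ H)) (p2 := (t : G ⧸ H)) (p3 := (g : G ⧸ H))
      (q1 := ((1 : G) : G ⧸ H)) (q2 := (t : G ⧸ H)) (q3 := (g' : G ⧸ H)) ⟨1, one_smul _ _, one_smul _ _⟩
      ⟨k1, smul_one_eq.mpr h1, e1'⟩ ⟨t * k3 * t, smul_mk_eq.mpr (by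
        rw [CfsgLib.RankOne.inv_t c.setup]
        simpa [mul_assoc, c.setup.mul_self, ← mul_assoc t t] using h3), e2'⟩
    have hr1' := smul_one_eq.mp hr1
    have hr2' := hHS _ (smul_mk_eq.mp hr2)
    have hrD : r ∈ CfsgLib.RankOne.D S t := (CfsgLib.RankOne.mem_D c.setup).mpr
      ⟨hHS r hr1', by rwa [mul_smul, mul_smul, inv_smul_eq_iff] at hr2'⟩
    rw [mk_smul, QuotientGroup.eq] at hr3
    exact ⟨(⟨r, hr1', hrD⟩, ⟨(r * g)⁻¹ * g', hr3⟩), mul_inv_cancel_left (r * g) g'⟩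
  have hpos : 0 < Nat.card H * Nat.card ↥(H ⊓ CfsgLib.RankOne.D S t) := Nat.mul_pos Nat.card_pos Nat.card_pos
  refine Nat.le_of_mul_le_mul_right ?_ hpos
  calc (Nat.card (S : Subgroup G) - 1) * (Nat.card H * Nat.card ↥(H ⊓ CfsgLib.RankOne.D S t))
      = (Nat.card (S : Subgroup G) - 1) * Nat.card H * Nat.card ↥(H ⊓ CfsgLib.RankOne.D S t) := by ring
    _ ≤ Nat.card (CfsgLib.RankOne.D S t) * Nat.card (twoCosets t H g) := hcount
    _ ≤ Nat.card (CfsgLib.RankOne.D S t) * (Nat.card ↥(H ⊓ CfsgLib.RankOne.D S t) * Nat.card H) :=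
        Nat.mul_le_mul_left _ hN
    _ = _ := by ring

/-- A triangle of three Sylow subgroups. -/
theorem Ctx.exists_triangle (h : Nat.card (CfsgLib.RankOne.D S t) < Nat.card (S : Subgroup G) - 1) :
    ∃ (A B : Sylow 2 G) (x y : G), A ≠ B ∧ x ∈ (A : Subgroup G) ∧ y ∈ (B : Subgroup G) ∧ x ≠ 1 ∧ y ≠ 1 ∧
      Two (y * x) := by
  obtain ⟨g, hgS, -, hcount⟩ := c.exists_fibre le_rfl (fun k hk => smul_eq_of_mem hk)
  have hlt : Nat.card (S : Subgroup G) < Nat.card (twoCosets t (S : Subgroup G) g) := by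
    by_contra hle
    push Not at hle
    have hE : 1 ≤ Nat.card ↥((S : Subgroup G) ⊓ CfsgLib.RankOne.D S t) := Nat.card_pos
    have h1 := (Nat.mul_le_mul_left _ hE).trans (hcount.trans (Nat.mul_le_mul_left _ hle))
    rw [mul_one] at h1
    exact absurd (Nat.le_of_mul_le_mul_right h1 Nat.card_pos) (by omega)
  obtain ⟨g', hg', hout⟩ : ∃ g' ∈ twoCosets t (S : Subgroup G) g, g⁻¹ * g' ∉ (S : Subgroup G) := by
    by_contra hall
    push Not at hall
    have := Nat.card_le_card_of_injective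
      (fun g' : twoCosets t (S : Subgroup G) g => (⟨g⁻¹ * g'.1, hall _ g'.2⟩ : (S : Subgroup G)))
      (fun a b e => Subtype.ext (mul_left_cancel (congrArg Subtype.val e :)))
    omega
  obtain ⟨k1, h1, k2, h2, k3, h3, k4, h4, e1, e2⟩ := hg'
  have e3 : g' = t * k3 * t * g * k4 := by
    calc g' = t * (t * g') := by rw [← mul_assoc, c.setup.mul_self, one_mul]
      _ = t * k3 * t * g * k4 := by rw [e2]; group
  refine ⟨S, t • S, k1, (t * k3 * t)⁻¹, (CfsgLib.RankOne.ta_ne c.setup).symm, h1, ?_, ?_, ?_, ?_⟩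
  · refine inv_mem ?_
    have := conj_mem_smul_sylow (g := t) h3
    rwa [CfsgLib.RankOne.inv_t c.setup] at this
  · rintro rfl
    exact hout (by rw [e1, one_mul, ← mul_assoc, inv_mul_cancel, one_mul]; exact h2)
  · intro h0
    rw [inv_eq_one] at h0
    exact hout (by rw [e3, h0, one_mul, ← mul_assoc, inv_mul_cancel, one_mul]; exact h4)
  · obtain ⟨n, hn⟩ := S.2 ⟨k4 * k2⁻¹, mul_mem h4 (inv_mem h2)⟩
    refine ⟨n, ?_⟩
    have : (t * k3 * t)⁻¹ * k1 = g * (k4 * k2⁻¹) * g⁻¹ := by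
      calc (t * k3 * t)⁻¹ * k1 = (t * k3 * t)⁻¹ * (k1 * g * k2) * k2⁻¹ * g⁻¹ := by group
        _ = (t * k3 * t)⁻¹ * (t * k3 * t * g * k4) * k2⁻¹ * g⁻¹ := by rw [← e1, e3]
        _ = _ := by group
    rw [this, conj_pow, show (k4 * k2⁻¹) ^ 2 ^ n = 1 from congrArg Subtype.val hn, mul_one, mul_inv_cancel]

end CfsgLib.BinaryCoset
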